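import Cfsg.Agent.Lib.Helper39.BG11Defs

/-!
B-G Theorem 12.5(e) (rung 12 of helper39's S1417 ladder).
-/

set_option autoImplicit false

namespace Cfsg.Agent.Lib.Helper26.BG11

open Subgroup Cfsg.Agent.Lib.Helper30 Cfsg.Agent.Lib.Helper39.BG11

universe u

variable {G : Type u} [Group G] [Finite G] {M A A₀ : Subgroup G} {p : ℕ} [Fact p.Prime]

/-- `x ^ m, x ^ n ∈ X`, `m, n` coprime: `x ∈ X`. -/
theorem mem_of_pow_mem_of_coprime {X : Subgroup G} {x : G} {m n : ℕ} (hmn : m.Coprime n)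
    (hm : x ^ m ∈ X) (hn : x ^ n ∈ X) : x ∈ X := by
  have h1 : (m : ℤ) * Nat.gcdA m n + n * Nat.gcdB m n = 1 := by
    have := Nat.gcd_eq_gcd_ab m n
    rw [hmn] at this
    exact_mod_cast this.symm
  have h2 : x = (x ^ m) ^ (Nat.gcdA m n) * (x ^ n) ^ (Nat.gcdB m n) := by
    rw [← zpow_natCast x m, ← zpow_natCast x n, ← zpow_mul, ← zpow_mul, ← zpow_add, h1, zpow_one]
  rw [h2]
  exact X.mul_mem (X.zpow_mem hm _) (X.zpow_mem hn _)

/-- powers of `s * a` modulo a subgroup normalized by `a`. -/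
theorem exists_mul_pow {X : Subgroup G} {s a : G} (hs : s ∈ X) (ha : a ∈ normalizer (X : Set G))
    (n : ℕ) : ∃ s' ∈ X, (s * a) ^ n = s' * a ^ n := by
  induction n with
  | zero => exact ⟨1, X.one_mem, by simp⟩
  | succ n ih =>
    obtain ⟨s', hs', h⟩ := ih
    refine ⟨s' * (a ^ n * s * (a ^ n)⁻¹), X.mul_mem hs' ?_, ?_⟩
    · exact (mem_normalizer_iff.mp ((normalizer (X : Set G)).pow_mem ha n) s).mp hs
    · rw [pow_succ, h, pow_succ]; group

/-- a `q`-subgroup of `X ⊔ A`, `A` elementary abelian `p`-group normalizing `X`, `q ≠ p`, lies in `X`. -/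
theorem le_of_le_sup_ea {X D : Subgroup G} {q : ℕ} [Fact q.Prime] (hea : Cfsg.IsElementaryAbelian p A)
    (hAX : A ≤ normalizer (X : Set G)) (hD : IsPGroup q D) (hqp : q ≠ p) (hDJ : D ≤ X ⊔ A) : D ≤ X := by
  intro d hd
  have h1 : d ∈ ((X ⊔ A : Subgroup G) : Set G) := hDJ hd
  rw [coe_mul_of_right_le_normalizer_left X A hAX] at h1
  obtain ⟨s, hs, a, ha, rfl⟩ := Set.mem_mul.mp h1
  obtain ⟨s', hs', h2⟩ := exists_mul_pow (X := X) hs (hAX ha) p
  rw [hea.2 a ha, mul_one] at h2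
  obtain ⟨k, hk⟩ := hD ⟨s * a, hd⟩
  have hk' : (s * a) ^ q ^ k = 1 := by simpa using congrArg Subtype.val hk
  have hcop : p.Coprime (q ^ k) :=
    Nat.Coprime.pow_right k ((Nat.coprime_primes Fact.out Fact.out).mpr (Ne.symm hqp))
  exact mem_of_pow_mem_of_coprime hcop (h2 ▸ hs') (hk' ▸ X.one_mem)

/-- a Sylow subgroup of a nilpotent subgroup `K` is normalized by everything normalizing `K`. -/
theorem le_normalizer_of_isSylowIn_nilpotent {K Q : Subgroup G} {q : ℕ} [Fact q.Prime]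
    (hK : Group.IsNilpotent K) (hQ : IsSylowIn q Q K) : normalizer (K : Set G) ≤ normalizer (Q : Set G) := by
  obtain ⟨P', hP'⟩ := hQ.exists_sylow
  have hn : (P' : Subgroup K).Normal :=
    ((Group.isNilpotent_of_finite_tfae (G := K)).out 0 3 rfl rfl).mp hK q inferInstance P'
  have hKQ : K ≤ normalizer (Q : Set G) := by
    rw [← hP']
    exact Cfsg.Agent.Lib.Helper28.le_normalizer_map_subtype hn
  intro m hm
  have h1 : IsSylowIn q (cj m Q) K := by
    have := hQ.cj m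
    rwa [cj_eq_of_mem_normalizer hm] at this
  obtain ⟨k, hk, h2⟩ := hQ.conj h1
  rw [cj_eq_of_mem_normalizer (hKQ hk)] at h2
  exact mem_normalizer_of_cj_eq h2

theorem ne_bot_of_isSylowIn {K Q : Subgroup G} {q : ℕ} (hQ : IsSylowIn q Q K) (hq : q ∣ Nat.card K) :
    Q ≠ ⊥ := by
  rintro rfl
  apply hQ.not_dvd
  rwa [relIndex_bot_left]

theorem coprime_card_sigmaCore (hG : Cfsg.IsMinSimpleOddOrder G) (hM : IsCoatom M)
    (hp : p ∉ Cfsg.sigma M) (hc : Nat.card A = p ^ 2) :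
    (Nat.card A).Coprime (Nat.card (Cfsg.sigmaCore M)) := by
  rw [hc]
  apply Nat.Coprime.pow_left
  rw [Nat.Prime.coprime_iff_not_dvd Fact.out]
  intro hd
  exact hp ((Cfsg.Agent.Lib.Helper28.BG12.sigmaCore_hall hG hM).2.1 p Fact.out hd)

theorem isSylowIn_top_of_sigmaCore (hG : Cfsg.IsMinSimpleOddOrder G) (hM : IsCoatom M) {q : ℕ}
    [Fact q.Prime] (hq : q ∈ Cfsg.sigma M) {Q : Subgroup G} (hQ : IsSylowIn q Q (Cfsg.sigmaCore M)) :
    IsSylowIn q Q ⊤ := by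
  refine ⟨le_top, hQ.isPGroup, ?_⟩
  rw [relIndex_top_right, ← relIndex_mul_index hQ.le]
  intro hd
  rcases (Nat.Prime.dvd_mul Fact.out).mp hd with h | h
  · exact hQ.not_dvd h
  · exact (Cfsg.Agent.S1350.result hG M hM).2.1.2 q Fact.out hq h

theorem sE (hG : Cfsg.IsMinSimpleOddOrder G) (h16 : T16 G) (h11 : T11 G) (hC : SC G) : SE G := by
  intro M p _ A A₀ H h hH hHM hAH
  have res := h11 M p A A₀ h
  by_contra hD
  set S := Cfsg.sigmaCore M with hS
  have hSM : S ≤ M := Cfsg.Agent.Lib.Helper28.BG12.sigmaCore_le M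
  have hMS : M ≤ normalizer (S : Set G) := Cfsg.Agent.Lib.Helper28.BG12.le_normalizer_sigmaCore M
  have hAS : A ≤ normalizer (S : Set G) := h.le.trans hMS
  have hAD : A ≤ normalizer ((S ⊓ H : Subgroup G) : Set G) :=
    le_normalizer_inf hAS (hAH.trans le_normalizer)
  have hcop : (Nat.card A).Coprime (Nat.card S) := coprime_card_sigmaCore hG h.max h.ns h.card
  have hAtop : A ≠ ⊤ := fun ht => h.max.1 (top_le_iff.mp (ht ▸ h.le))
  have hsol : Group.IsSolvable A := solvable_of_ne_top hG hAtop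
  have hcopD : (Nat.card A).Coprime (Nat.card (S ⊓ H : Subgroup G)) :=
    Nat.Coprime.coprime_dvd_right (card_dvd_of_le inf_le_left) hcop
  -- the prime `q`
  obtain ⟨q, hq, hqD⟩ := Nat.exists_prime_and_dvd (n := Nat.card (S ⊓ H : Subgroup G))
    (fun h1 => hD (Subgroup.card_eq_one.mp h1))
  have : Fact q.Prime := ⟨hq⟩
  obtain ⟨Dq, hDq, hADq⟩ := exists_invariant_isSylowIn hAD hcopD (Or.inl hsol) q
  have hDq1 : Dq ≠ ⊥ := ne_bot_of_isSylowIn hDq hqD
  have hqS : q ∈ Cfsg.sigma M :=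
    (Cfsg.Agent.Lib.Helper28.BG12.sigmaCore_hall hG h.max).2.1 q hq
      (hqD.trans (card_dvd_of_le inf_le_left))
  have hqp : q ≠ p := fun e => h.ns (e ▸ hqS)
  have hqA : ¬ q ∣ Nat.card A := by
    rw [h.card]
    intro hd
    exact hqp ((Nat.prime_dvd_prime_iff_eq hq Fact.out).mp (hq.dvd_of_dvd_pow hd))
  have hDqS : Dq ≤ S := hDq.le.trans inf_le_left
  have hDqH : Dq ≤ H := hDq.le.trans inf_le_right
  obtain ⟨Q, hQ, hDqQ, hAQ⟩ := exists_invariant_isSylowIn_ge hAS hcop (Or.inl hsol) q hDqS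
    hDq.isPGroup hADq
  have hQtop : IsSylowIn q Q ⊤ := isSylowIn_top_of_sigmaCore hG h.max hqS hQ
  have hQmax : Q ∈ Cfsg.maxInvSubgroups ⊤ A {q} :=
    ⟨mem_invSubgroups_top_iff.mpr ⟨hQ.isPGroup, hAQ⟩, fun R hR hQR =>
      hQtop.eq_of_le le_top (mem_invSubgroups_top_iff.mp hR).1 hQR⟩
  have hHQ : H ⊓ Q ≠ ⊥ := fun e => hDq1 (le_bot_iff.mp (e ▸ le_inf hDqH hDqQ))
  -- (e1)
  have e1 : ∀ Y : Subgroup G, Y ≤ H → IsPGroup q Y → A ≤ normalizer (Y : Set G) → Y ≤ S := by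
    intro Y hYH hY hAY
    by_cases hY1 : Y = ⊥
    · rw [hY1]; exact bot_le
    obtain ⟨T, hT, hYT⟩ := exists_maxInv_ge hY hAY
    have hHT : H ⊓ T ≠ ⊥ := fun e => hY1 (le_bot_iff.mp (e ▸ le_inf hYH hYT))
    obtain ⟨k, hk, rfl⟩ := kconj_of_common_overgroup hG res.trans hqA hQmax hT hH.1 hAH hHQ hHT
    have hkM : k ∈ M := res.cent (transK_le_centralizer A hk)
    calc Y ≤ cj k Q := hYT
      _ ≤ cj k S := Helper30.cj_mono k hQ.le
      _ = S := cj_eq_of_mem_normalizer (hMS hkM)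
  -- (e2)
  have e2 : H ⊓ normalizer (A : Set G) ≤ M := by
    intro n hn
    by_contra hnM
    have hnH : n ∈ H := (mem_inf.mp hn).1
    have hnA : cj n A = A := cj_eq_of_mem_normalizer (mem_inf.mp hn).2
    have h1 : cj n Dq ≤ S := by
      apply e1
      · calc cj n Dq ≤ cj n H := Helper30.cj_mono n hDqH
          _ = H := cj_eq_of_mem hnH
      · exact isPGroup_cj n hDq.isPGroup
      · rw [normalizer_cj, ← hnA]
        exact Helper30.cj_mono n hADq
    have h2 : cj n Dq ≤ cj n M := Helper30.cj_mono n (hDqS.trans hSM)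
    have h3 := res.ti n hnM (by rw [← hnA]; exact Helper30.cj_mono n h.le)
    have h4 : cj n Dq = ⊥ := le_bot_iff.mp (h3 ▸ le_inf h1 h2)
    apply hDq1
    rw [← Subgroup.card_eq_one, ← card_cj n, h4]
    exact Subgroup.card_bot
  have hA1 : A ≠ ⊥ := by
    intro e
    have h1 := h.card
    rw [e, Subgroup.card_bot] at h1
    have := (Fact.out : p.Prime).one_lt
    nlinarith [Nat.one_lt_pow (n := 2) (by norm_num) this]
  -- (e3)
  have e3 : p ∉ Cfsg.sigma H := by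
    intro hpH
    have h1 := (Cfsg.Agent.S1404.result hG H hH p hpH A
      (Cfsg.Agent.Lib.Helper2.ea_isPGroup h.ea) hA1 hAH).2
    apply res.nnorm
    rw [h1]
    exact sup_le e2 res.cent
  -- (e4)
  obtain ⟨B₀, hHyp⟩ := h16 H p A hH e3 hAH h.ea h.card
  have hJ := hC H p A B₀ hHyp
  set SH := Cfsg.sigmaCore H with hSH
  have hSHH : SH ≤ H := Cfsg.Agent.Lib.Helper28.BG12.sigmaCore_le H
  have hHSH : H ≤ normalizer (SH : Set G) := Cfsg.Agent.Lib.Helper28.BG12.le_normalizer_sigmaCore H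
  -- (e5)
  have hSCA : S ⊓ centralizer (A : Set G) = ⊥ := by
    obtain ⟨A₁, _, hA₁, _, _, _, _, hf, _⟩ := res.fpf2
    exact le_bot_iff.mp (hf ▸ inf_le_inf_left S (centralizer_le (SetLike.coe_subset_coe.mpr hA₁)))
  have hcopDq : (Nat.card A).Coprime (Nat.card Dq) :=
    Nat.Coprime.coprime_dvd_right (card_dvd_of_le hDqS) hcop
  have h5 : ⁅Dq, A⁆ = Dq := by
    have h1 := commutator_sup_centralizer hADq hcopDq (Or.inl hsol)
    have h2 : Dq ⊓ centralizer (A : Set G) = ⊥ :=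
      le_bot_iff.mp (hSCA ▸ inf_le_inf_right _ hDqS)
    rwa [h2, sup_bot_eq] at h1
  have h5' : Dq ≤ SH ⊔ A := by
    rw [← h5, commutator_le]
    intro d hd a ha
    have ha' : a ∈ SH ⊔ A := le_sup_right (a := SH) ha
    have h1 : d * a * d⁻¹ ∈ SH ⊔ A := (mem_normalizer_iff.mp (hJ (hDqH hd)) a).mp ha'
    rw [commutatorElement_def]
    exact (SH ⊔ A).mul_mem h1 ((SH ⊔ A).inv_mem ha')
  have h5'' : Dq ≤ SH := le_of_le_sup_ea h.ea (hAH.trans hHSH) hDq.isPGroup hqp h5'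
  -- (e6)
  have hqH : q ∈ Cfsg.sigma H :=
    (Cfsg.Agent.Lib.Helper28.BG12.sigmaCore_hall hG hH).2.1 q hq
      ((dvd_card_of_isPGroup_ne_bot hDq.isPGroup hDq1).trans (card_dvd_of_le h5''))
  have hcopH : (Nat.card A).Coprime (Nat.card SH) := coprime_card_sigmaCore hG hH e3 h.card
  obtain ⟨QH, hQH, hDqQH, hAQH⟩ := exists_invariant_isSylowIn_ge (hAH.trans hHSH) hcopH
    (Or.inl hsol) q h5'' hDq.isPGroup hADq
  have h6 : QH = Dq :=
    hDq.eq_of_le (le_inf (e1 QH (hQH.le.trans hSHH) hQH.isPGroup hAQH) (hQH.le.trans hSHH))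
      hQH.isPGroup hDqQH
  rw [h6] at hQH
  have hDqtop : IsSylowIn q Dq ⊤ := isSylowIn_top_of_sigmaCore hG hH hqH hQH
  have h6' : Q = Dq := hDqtop.eq_of_le le_top hQ.isPGroup hDqQ
  have h6'' : normalizer (Q : Set G) ≤ H := by
    rw [h6']
    exact Cfsg.Agent.Lib.Helper68.normalizer_le_of_mem_sigma hqH
      (Cfsg.Agent.Lib.Helper2.IsSylowIn_of_le hDqtop hDqH le_top)
  -- (e7)
  have h7 : M ≤ H := (hMS.trans (le_normalizer_of_isSylowIn_nilpotent res.nil hQ)).trans h6''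
  rcases h.max.le_iff.mp h7 with e | e
  · exact hH.1 e
  · exact hHM e

end Cfsg.Agent.Lib.Helper26.BG11
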