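import Mathlib
import Cfsg.Prelude.Def_CaseTheorems
import Cfsg.Agent.Lib.Helper3.RankThree
import Cfsg.Agent.Lib.Helper59.UniqueOdd

set_option autoImplicit false

namespace Cfsg.Agent.Lib.Helper26.Rank2G2

variable {T : Type*} [Group T]

/-- the preimage of the centre of `T ⧸ K`. -/
def relZ (K : Subgroup T) [K.Normal] : Subgroup T :=
  (Subgroup.center (T ⧸ K)).comap (QuotientGroup.mk' K)

theorem mem_relZ {K : Subgroup T} [K.Normal] {x : T} :
    x ∈ relZ K ↔ ∀ g : T, g * x * g⁻¹ * x⁻¹ ∈ K := by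
  unfold relZ
  rw [Subgroup.mem_comap, Subgroup.mem_center_iff]
  constructor
  · intro h g
    have h1 := h (QuotientGroup.mk' K g)
    rw [← QuotientGroup.eq_one_iff]
    simp only [QuotientGroup.mk'_apply] at h1
    simp only [QuotientGroup.mk_mul, QuotientGroup.mk_inv]
    rw [h1]
    group
  · intro h g'
    obtain ⟨g, rfl⟩ := QuotientGroup.mk'_surjective K g'
    have h1 := h g
    rw [← QuotientGroup.eq_one_iff] at h1
    simp only [QuotientGroup.mk_mul, QuotientGroup.mk_inv] at h1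
    simp only [QuotientGroup.mk'_apply]
    have h2 : (g : T ⧸ K) * (x : T ⧸ K) = ((g : T ⧸ K) * x * (g : T ⧸ K)⁻¹ * (x : T ⧸ K)⁻¹) * (x * g) := by
      group
    rw [h2, h1, one_mul]

instance relZ_normal (K : Subgroup T) [K.Normal] : (relZ K).Normal := by
  unfold relZ
  infer_instance

theorem le_relZ (K : Subgroup T) [K.Normal] : K ≤ relZ K := by
  intro x hx
  rw [mem_relZ]
  intro g
  exact K.mul_mem (‹K.Normal›.conj_mem x hx g) (K.inv_mem hx)

/-- a normal subgroup strictly above `K` contains a new element which is central modulo `K`. -/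
theorem exists_rel_central [Finite T] {p : ℕ} [Fact p.Prime] (hT : IsPGroup p T)
    (K N : Subgroup T) [K.Normal] [N.Normal] (hKN : K < N) :
    ∃ x ∈ N, x ∉ K ∧ x ∈ relZ K := by
  have hn : (N.map (QuotientGroup.mk' K)).Normal :=
    Subgroup.Normal.map inferInstance _ (QuotientGroup.mk'_surjective K)
  have hne : N.map (QuotientGroup.mk' K) ≠ ⊥ := by
    intro h
    rw [Subgroup.map_eq_bot_iff, QuotientGroup.ker_mk'] at h
    exact absurd hKN.le (fun _ => (not_le_of_gt hKN) h)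
  have h := Cfsg.Agent.Lib.Helper3.normal_inf_center_ne_bot' (hT.to_quotient K)
    (N.map (QuotientGroup.mk' K)) hne
  obtain ⟨⟨y, hy⟩, hy1⟩ := Subgroup.ne_bot_iff_exists_ne_one.mp h
  obtain ⟨hyN, hyZ⟩ := Subgroup.mem_inf.mp hy
  obtain ⟨x, hxN, rfl⟩ := Subgroup.mem_map.mp hyN
  refine ⟨x, hxN, ?_, hyZ⟩
  intro hxK
  apply hy1
  apply Subtype.ext
  exact (QuotientGroup.eq_one_iff x).mpr hxK

/-- in a `p`-group there is nothing strictly between `K` and `N` if `|N| = p |K|`. -/
theorem eq_of_lt_of_le_of_card [Finite T] {p : ℕ} [hp : Fact p.Prime] (hT : IsPGroup p T)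
    {K L N : Subgroup T} (hKL : K < L) (hLN : L ≤ N) (hc : Nat.card N = p * Nat.card K) :
    L = N := by
  obtain ⟨a, ha⟩ := IsPGroup.iff_card.mp (hT.to_subgroup K)
  obtain ⟨b, hb⟩ := IsPGroup.iff_card.mp (hT.to_subgroup L)
  have h1 : Nat.card K < Nat.card L := by
    rcases lt_or_ge (Nat.card K) (Nat.card L) with h | h
    · exact h
    · exact absurd (Subgroup.eq_of_le_of_card_ge hKL.le h) hKL.ne
  apply Subgroup.eq_of_le_of_card_ge hLN
  rw [hc, ha, hb] at *
  have h2 : a < b := (Nat.pow_lt_pow_iff_right hp.out.one_lt).mp h1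
  calc p * p ^ a = p ^ (a + 1) := by rw [pow_succ, mul_comm]
    _ ≤ p ^ b := Nat.pow_le_pow_right hp.out.pos h2

/-- a chief step of a `p`-group is central. -/
theorem le_relZ_of_card [Finite T] {p : ℕ} [hp : Fact p.Prime] (hT : IsPGroup p T)
    (K N : Subgroup T) [K.Normal] [N.Normal] (hKN : K ≤ N) (hc : Nat.card N = p * Nat.card K) :
    N ≤ relZ K := by
  have hlt : K < N := by
    refine lt_of_le_of_ne hKN ?_
    rintro rfl
    have h0 : 0 < Nat.card K := Nat.card_pos
    have := hp.out.one_lt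
    nlinarith
  obtain ⟨x, hxN, hxK, hxZ⟩ := exists_rel_central hT K N hlt
  have h1 : K < N ⊓ relZ K := by
    refine lt_of_le_of_ne (le_inf hKN (le_relZ K)) ?_
    intro h
    apply hxK
    rw [h]
    exact ⟨hxN, hxZ⟩
  have h2 := eq_of_lt_of_le_of_card hT h1 inf_le_left hc
  rw [← h2]
  exact inf_le_right

/-- order of a subgroup strictly between orders `p` and `p ^ 3`. -/
theorem card_eq_sq_of_lt_of_lt [Finite T] {p : ℕ} [hp : Fact p.Prime] (hT : IsPGroup p T)
    {K L N : Subgroup T} (hKL : K < L) (hLN : L < N) (hK : Nat.card K = p)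
    (hN : Nat.card N = p ^ 3) : Nat.card L = p ^ 2 := by
  obtain ⟨b, hb⟩ := IsPGroup.iff_card.mp (hT.to_subgroup L)
  have h1 : Nat.card K < Nat.card L := by
    rcases lt_or_ge (Nat.card K) (Nat.card L) with h | h
    · exact h
    · exact absurd (Subgroup.eq_of_le_of_card_ge hKL.le h) hKL.ne
  have h2 : Nat.card L < Nat.card N := by
    rcases lt_or_ge (Nat.card L) (Nat.card N) with h | h
    · exact h
    · exact absurd (Subgroup.eq_of_le_of_card_ge hLN.le h) hLN.ne
  rw [hb, hK] at h1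
  rw [hb, hN] at h2
  have h3 : 1 < b := by
    have : p ^ 1 < p ^ b := by simpa using h1
    exact (Nat.pow_lt_pow_iff_right hp.out.one_lt).mp this
  have h4 : b < 3 := (Nat.pow_lt_pow_iff_right hp.out.one_lt).mp h2
  have : b = 2 := by omega
  rw [hb, this]

/-- rank `≤ 2`: an element of order dividing `p` commuting with an elementary abelian
subgroup of order `p ^ 2` lies in it. -/
theorem mem_of_rank [Finite T] {p : ℕ} (hrk : Cfsg.PRankLE p 2 T) (V : Subgroup T)
    (hVc : ∀ a ∈ V, ∀ b ∈ V, a * b = b * a) (hVe : ∀ a ∈ V, a ^ p = 1)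
    (hV : Nat.card V = p ^ 2) (x : T) (hx : x ^ p = 1) (hxV : ∀ a ∈ V, a * x = x * a) :
    x ∈ V := by
  have hzc : ∀ a ∈ Subgroup.zpowers x, ∀ b ∈ Subgroup.zpowers x, a * b = b * a := by
    rintro _ ⟨i, rfl⟩ _ ⟨j, rfl⟩
    simp only
    rw [← zpow_add, ← zpow_add, add_comm]
  have hVz : ∀ a ∈ V, ∀ b ∈ Subgroup.zpowers x, a * b = b * a := by
    rintro a ha _ ⟨j, rfl⟩
    simp only
    exact ((show Commute a x from hxV a ha).zpow_right j)
  have hc := Cfsg.Agent.Lib.Helper3.sup_comm_of_comm V (Subgroup.zpowers x) hVc hzc hVz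
  have hze : ∀ a ∈ Subgroup.zpowers x, a ^ p = 1 := by
    rintro _ ⟨j, rfl⟩
    simp only
    rw [← zpow_natCast, ← zpow_mul, mul_comm, zpow_mul, zpow_natCast, hx, one_zpow]
  have he := Cfsg.Agent.Lib.Helper3.sup_pow_of_comm V (Subgroup.zpowers x) p hVe hze hc
  have hcard := hrk (V ⊔ Subgroup.zpowers x)
    ⟨⟨fun a b => Subtype.ext (hc a.1 a.2 b.1 b.2)⟩⟩ he
  have heq : V = V ⊔ Subgroup.zpowers x :=
    Subgroup.eq_of_le_of_card_ge le_sup_left (by rw [hV]; exact hcard)
  rw [heq]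
  exact Subgroup.mem_sup_right (Subgroup.mem_zpowers x)

end Cfsg.Agent.Lib.Helper26.Rank2G2
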