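import Mathlib
import Cfsg.Agent.Lib.Helper26.Rank2G2a
import Cfsg.Agent.Lib.Helper59.CycSelfCentA
import Cfsg.Agent.Lib.Helper86.Rank2Defs

set_option autoImplicit false

namespace Cfsg.Agent.Lib.Helper26.Rank2G2

open Cfsg.Agent.Lib.Helper86.Rank2

variable {T : Type*} [Group T]

/-- the centre of `D` as a subgroup of `T`. -/
def Z0 (D : Subgroup T) : Subgroup T := D ⊓ Subgroup.centralizer (D : Set T)

theorem mem_Z0 {D : Subgroup T} {z : T} : z ∈ Z0 D ↔ CenD D z := by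
  unfold Z0 CenD
  rw [Subgroup.mem_inf, Subgroup.mem_centralizer_iff]
  constructor
  · rintro ⟨h1, h2⟩
    exact ⟨h1, fun x hx => (h2 x hx).symm⟩
  · rintro ⟨h1, h2⟩
    exact ⟨h1, fun x hx => (h2 x hx).symm⟩

instance Z0_normal (D : Subgroup T) [D.Normal] : (Z0 D).Normal := by
  unfold Z0
  infer_instance

/-- the preimage in `D` of the fixed points of `T` on `D / Z(D)`. -/
def V0 (D : Subgroup T) [D.Normal] : Subgroup T := D ⊓ relZ (Z0 D)

instance V0_normal (D : Subgroup T) [D.Normal] : (V0 D).Normal := by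
  unfold V0
  infer_instance

/-- the configuration extracted from the hypotheses of the weight lemma. -/
structure Cfg (p : ℕ) (D Z V : Subgroup T) (d₂ : T) : Prop where
  Zcen : ∀ z ∈ Z, ∀ g : T, z * g = g * z
  Zcard : Nat.card Z = p
  ZV : Z ≤ V
  VD : V ≤ D
  Vcomm : ∀ a ∈ V, ∀ b ∈ V, a * b = b * a
  Vcard : Nat.card V = p ^ 2
  TD : ∀ g : T, ∀ x ∈ D, g * x * g⁻¹ * x⁻¹ ∈ V
  TV : ∀ g : T, ∀ x ∈ V, g * x * g⁻¹ * x⁻¹ ∈ Z
  hd : d₂ ∈ D
  gen : ∀ x : T, x * d₂ = d₂ * x → (∀ a ∈ V, a * x = x * a) →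
    x ∈ Subgroup.centralizer (D : Set T)
  ZD : ∀ x ∈ D, x ∈ Subgroup.centralizer (D : Set T) → x ∈ Z
  ZC : Z ≤ Subgroup.centralizer (D : Set T)
  Dexp : ∀ x ∈ D, x ^ p = 1

theorem card_Z0 [Finite T] {p : ℕ} [hp : Fact p.Prime] (hT : IsPGroup p T)
    (hrk : Cfsg.PRankLE p 2 T) (D : Subgroup T) [D.Normal] (hDc : Nat.card D = p ^ 3)
    (hDe : ∀ x ∈ D, x ^ p = 1) : Nat.card (Z0 D) = p := by
  have hDne : D ≠ ⊥ := by
    rintro rfl
    rw [Subgroup.card_bot] at hDc
    have := Nat.one_lt_pow (n := 3) (by norm_num) hp.out.one_lt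
    omega
  have h1 := Cfsg.Agent.Lib.Helper3.normal_inf_center_ne_bot' hT D hDne
  have hne : Z0 D ≠ ⊥ := by
    intro h
    apply h1
    rw [eq_bot_iff, ← h]
    intro x hx
    refine Subgroup.mem_inf.mpr ⟨hx.1, ?_⟩
    rw [Subgroup.mem_centralizer_iff]
    intro y _
    exact (Subgroup.mem_center_iff.mp hx.2 y)
  have hcomm : ∀ a ∈ Z0 D, ∀ b ∈ Z0 D, a * b = b * a := by
    intro a ha b hb
    exact (mem_Z0.mp ha).2 b hb.1
  have hexp : ∀ a ∈ Z0 D, a ^ p = 1 := fun a ha => hDe a ha.1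
  obtain ⟨a, ha⟩ := IsPGroup.iff_card.mp (hT.to_subgroup (Z0 D))
  have ha0 : a ≠ 0 := by
    rintro rfl
    rw [pow_zero] at ha
    exact hne (Subgroup.card_eq_one.mp ha)
  have hle := hrk (Z0 D) ⟨⟨fun x y => Subtype.ext (hcomm x.1 x.2 y.1 y.2)⟩⟩ hexp
  have ha2 : a ≤ 2 := by
    rw [ha] at hle
    exact (Nat.pow_le_pow_iff_right hp.out.one_lt).mp hle
  have ha2' : a ≠ 2 := by
    rintro rfl
    have hD : D ≤ Z0 D := by
      intro x hx
      apply mem_of_rank hrk (Z0 D) hcomm hexp ha x (hDe x hx)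
      intro y hy
      exact (mem_Z0.mp hy).2 x hx
    have := Nat.card_le_card_of_injective _ (Subgroup.inclusion_injective hD)
    rw [hDc, ha] at this
    have h3 := (Nat.pow_le_pow_iff_right hp.out.one_lt).mp this
    omega
  have : a = 1 := by omega
  rw [ha, this, pow_one]

theorem exists_cfg [Finite T] {p : ℕ} [hp : Fact p.Prime] (hT : IsPGroup p T)
    (hrk : Cfsg.PRankLE p 2 T) (D : Subgroup T) [D.Normal] (hDc : Nat.card D = p ^ 3)
    (hDe : ∀ x ∈ D, x ^ p = 1) (d₂ g₀ : T) (hd₂ : d₂ ∈ D)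
    (hg₀ : ¬ CenD D (g₀ * d₂ * g₀⁻¹ * d₂⁻¹)) : Cfg p D (Z0 D) (V0 D) d₂ := by
  have hZ := card_Z0 hT hrk D hDc hDe
  have hZD : Z0 D < D := by
    refine lt_of_le_of_ne inf_le_left ?_
    intro h
    rw [h, hDc] at hZ
    have : p ^ 1 < p ^ 3 := Nat.pow_lt_pow_right hp.out.one_lt (by norm_num)
    rw [pow_one] at this
    omega
  obtain ⟨x, hxD, hxZ, hxr⟩ := exists_rel_central hT (Z0 D) D hZD
  have hZV : Z0 D < V0 D := by
    refine lt_of_le_of_ne (le_inf inf_le_left (le_relZ _)) ?_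
    intro h
    apply hxZ
    rw [h]
    exact ⟨hxD, hxr⟩
  have hd₂V : d₂ ∉ V0 D := by
    intro h
    apply hg₀
    rw [← mem_Z0]
    exact mem_relZ.mp h.2 g₀
  have hVD : V0 D < D := by
    refine lt_of_le_of_ne inf_le_left ?_
    intro h
    apply hd₂V
    rw [h]
    exact hd₂
  have hV := card_eq_sq_of_lt_of_lt hT hZV hVD hZ hDc
  have hDV : Nat.card D = p * Nat.card (V0 D) := by rw [hDc, hV]; ring
  have hTD := le_relZ_of_card hT (V0 D) D hVD.le hDV
  have hgenD : V0 D ⊔ Subgroup.zpowers d₂ = D := by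
    apply eq_of_lt_of_le_of_card hT (K := V0 D) _ _ hDV
    · refine lt_of_le_of_ne le_sup_left ?_
      intro h
      apply hd₂V
      rw [h]
      exact Subgroup.mem_sup_right (Subgroup.mem_zpowers d₂)
    · exact sup_le hVD.le (by rw [Subgroup.zpowers_le]; exact hd₂)
  have hcen := Cfsg.Agent.Lib.Helper59.le_center_of_normal_card_prime hT (Z0 D) hZ
  refine
    { Zcen := fun z hz g => (Subgroup.mem_center_iff.mp (hcen hz) g).symm
      Zcard := hZ
      ZV := hZV.le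
      VD := hVD.le
      Vcomm := ?_
      Vcard := hV
      TD := fun g x hx => mem_relZ.mp (hTD hx) g
      TV := fun g x hx => mem_relZ.mp hx.2 g
      hd := hd₂
      gen := ?_
      ZD := fun x hx hx' => ⟨hx, hx'⟩
      ZC := inf_le_right
      Dexp := hDe }
  · intro a ha b hb
    have := (IsPGroup.isMulCommutative_of_card_eq_prime_sq hV).is_comm.comm ⟨a, ha⟩ ⟨b, hb⟩
    exact congrArg Subtype.val this
  · intro x hx1 hx2
    have h1 : D ≤ Subgroup.centralizer ({x} : Set T) := by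
      rw [← hgenD]
      apply sup_le
      · intro a ha
        rw [Subgroup.mem_centralizer_singleton_iff]
        exact hx2 a ha
      · rw [Subgroup.zpowers_le, Subgroup.mem_centralizer_singleton_iff]
        exact hx1.symm
    rw [Subgroup.mem_centralizer_iff]
    intro y hy
    exact Subgroup.mem_centralizer_singleton_iff.mp (h1 hy)

end Cfsg.Agent.Lib.Helper26.Rank2G2
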