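import Mathlib
import Cfsg.Agent.Lib.Helper26.Rank2G2b

set_option autoImplicit false

namespace Cfsg.Agent.Lib.Helper26.Rank2G2

open Cfsg.Agent.Lib.Helper86.Rank2

variable {T : Type*} [Group T]

/-- the commutator with `d₂`. -/
def Psi (d₂ x : T) : T := x * d₂ * x⁻¹ * d₂⁻¹

namespace Cfg

variable {p : ℕ} {D Z V : Subgroup T} {d₂ : T}

theorem Psi_mem (h : Cfg p D Z V d₂) (x : T) : Psi d₂ x ∈ V := h.TD x d₂ h.hd

theorem Psi_mul (h : Cfg p D Z V d₂) {x y : T} (hx : x ∈ Subgroup.centralizer (V : Set T)) :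
    Psi d₂ (x * y) = Psi d₂ x * Psi d₂ y := by
  have h1 : Psi d₂ y * x = x * Psi d₂ y := Subgroup.mem_centralizer_iff.mp hx _ (h.Psi_mem y)
  calc Psi d₂ (x * y) = x * Psi d₂ y * d₂ * x⁻¹ * d₂⁻¹ := by unfold Psi; group
    _ = Psi d₂ y * x * d₂ * x⁻¹ * d₂⁻¹ := by rw [h1]
    _ = Psi d₂ y * Psi d₂ x := by unfold Psi; group
    _ = _ := h.Vcomm _ (h.Psi_mem y) _ (h.Psi_mem x)

/-- `Psi` as a homomorphism on `C_T(V)`. -/
def PsiHom (h : Cfg p D Z V d₂) : ↥(Subgroup.centralizer (V : Set T)) →* T :=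
  MonoidHom.mk' (fun x => Psi d₂ (x : T)) (fun x y => h.Psi_mul x.2)

theorem Psi_zpow (h : Cfg p D Z V d₂) {x : T} (hx : x ∈ Subgroup.centralizer (V : Set T))
    (n : ℤ) : Psi d₂ (x ^ n) = Psi d₂ x ^ n := by
  have := map_zpow h.PsiHom ⟨x, hx⟩ n
  simpa [PsiHom] using this

theorem Psi_pow (h : Cfg p D Z V d₂) {x : T} (hx : x ∈ Subgroup.centralizer (V : Set T))
    (n : ℕ) : Psi d₂ (x ^ n) = Psi d₂ x ^ n := by
  have := map_pow h.PsiHom ⟨x, hx⟩ n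
  simpa [PsiHom] using this

theorem Psi_inv (h : Cfg p D Z V d₂) {x : T} (hx : x ∈ Subgroup.centralizer (V : Set T)) :
    Psi d₂ (x⁻¹) = (Psi d₂ x)⁻¹ := by
  have := map_inv h.PsiHom ⟨x, hx⟩
  simpa [PsiHom] using this

theorem V_le (h : Cfg p D Z V d₂) : V ≤ Subgroup.centralizer (V : Set T) := by
  intro x hx
  rw [Subgroup.mem_centralizer_iff]
  intro y hy
  exact h.Vcomm y hy x hx

theorem C_le (h : Cfg p D Z V d₂) :
    Subgroup.centralizer (D : Set T) ≤ Subgroup.centralizer (V : Set T) :=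
  Subgroup.centralizer_le h.VD

theorem Psi_eq_one_of_mem (h : Cfg p D Z V d₂) {x : T}
    (hx : x ∈ Subgroup.centralizer (D : Set T)) : Psi d₂ x = 1 := by
  have h1 : d₂ * x = x * d₂ := Subgroup.mem_centralizer_iff.mp hx d₂ h.hd
  unfold Psi
  rw [← h1]
  group

theorem mem_of_Psi_eq_one (h : Cfg p D Z V d₂) {x : T}
    (hx : x ∈ Subgroup.centralizer (V : Set T)) (h1 : Psi d₂ x = 1) :
    x ∈ Subgroup.centralizer (D : Set T) := by
  apply h.gen x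
  · unfold Psi at h1
    calc x * d₂ = (x * d₂ * x⁻¹ * d₂⁻¹) * (d₂ * x) := by group
      _ = d₂ * x := by rw [h1, one_mul]
  · intro a ha
    exact Subgroup.mem_centralizer_iff.mp hx a ha

theorem Psi_mem_Z (h : Cfg p D Z V d₂) {x : T} (hx : x ∈ V) : Psi d₂ x ∈ Z := by
  have h1 := Z.inv_mem (h.TV d₂ x hx)
  have h2 : (d₂ * x * d₂⁻¹ * x⁻¹)⁻¹ = Psi d₂ x := by unfold Psi; group
  rwa [h2] at h1

theorem mem_Z_of_Psi (h : Cfg p D Z V d₂) {x : T} (hx : x ∈ V) (h1 : Psi d₂ x = 1) : x ∈ Z :=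
  h.ZD x (h.VD hx) (h.mem_of_Psi_eq_one (h.V_le hx) h1)

theorem Psi_Z (h : Cfg p D Z V d₂) {x : T} (hx : x ∈ Z) : Psi d₂ x = 1 :=
  h.Psi_eq_one_of_mem (h.ZC hx)

theorem exists_zpow (h : Cfg p D Z V d₂) [Fact p.Prime] {z : T} (hz : z ∈ Z) (hz1 : z ≠ 1)
    {y : T} (hy : y ∈ Z) : ∃ k : ℤ, z ^ k = y := by
  have h1 : (⟨y, hy⟩ : Z) ∈ Subgroup.zpowers (⟨z, hz⟩ : Z) :=
    mem_zpowers_of_prime_card h.Zcard (fun h2 => hz1 (congrArg Subtype.val h2))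
  obtain ⟨k, hk⟩ := h1
  exact ⟨k, by simpa using congrArg Subtype.val hk⟩

theorem exists_c (h : Cfg p D Z V d₂) [Finite T] [Fact p.Prime] (hT : IsPGroup p T) (g₀ : T)
    (hg₀ : Psi d₂ g₀ ∉ Z) : ∃ c ∈ Subgroup.centralizer (V : Set T), Psi d₂ c ∉ Z := by
  set y := Psi d₂ g₀ with hy
  have hyV : y ∈ V := h.Psi_mem g₀
  set z1 := Psi d₂ y with hz1
  have hz1Z : z1 ∈ Z := h.Psi_mem_Z hyV
  have hz1ne : z1 ≠ 1 := fun h1 => hg₀ (h.mem_Z_of_Psi hyV h1)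
  obtain ⟨k, hk⟩ := h.exists_zpow hz1Z hz1ne (h.TV g₀ y hyV)
  have hzc : ∀ (n : ℤ) (g : T), z1 ^ n * g = g * z1 ^ n := fun n g =>
    h.Zcen _ (Z.zpow_mem hz1Z n) g
  refine ⟨g₀ * d₂ ^ k, ?_, ?_⟩
  · have hV : Z ⊔ Subgroup.zpowers y = V := by
      apply eq_of_lt_of_le_of_card hT (K := Z) _ _ (by rw [h.Vcard, h.Zcard]; ring)
      · refine lt_of_le_of_ne le_sup_left ?_
        intro h1
        apply hg₀
        rw [h1]
        exact Subgroup.mem_sup_right (Subgroup.mem_zpowers y)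
      · exact sup_le h.ZV (by rw [Subgroup.zpowers_le]; exact hyV)
    have e1 : y * d₂ ^ k * y⁻¹ = z1 ^ k * d₂ ^ k := by
      have : y * d₂ * y⁻¹ = z1 * d₂ := by rw [hz1]; unfold Psi; group
      rw [← conj_zpow, this]
      exact (show Commute z1 d₂ from h.Zcen z1 hz1Z d₂).mul_zpow k
    have e2 : g₀ * y = z1 ^ k * (y * g₀) := by rw [hk]; group
    have e3 : y * d₂ ^ k = z1 ^ k * d₂ ^ k * y := by rw [← e1]; group
    have hcy : y * (g₀ * d₂ ^ k) = (g₀ * d₂ ^ k) * y := by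
      have e4 : y * g₀ = (z1 ^ k)⁻¹ * (g₀ * y) := by rw [e2]; group
      calc y * (g₀ * d₂ ^ k) = (y * g₀) * d₂ ^ k := by group
        _ = (z1 ^ k)⁻¹ * (g₀ * y) * d₂ ^ k := by rw [e4]
        _ = (z1 ^ k)⁻¹ * g₀ * (y * d₂ ^ k) := by group
        _ = (z1 ^ k)⁻¹ * g₀ * (z1 ^ k * d₂ ^ k * y) := by rw [e3]
        _ = (z1 ^ k)⁻¹ * (g₀ * z1 ^ k) * d₂ ^ k * y := by group
        _ = (z1 ^ k)⁻¹ * (z1 ^ k * g₀) * d₂ ^ k * y := by rw [hzc k g₀]
        _ = (g₀ * d₂ ^ k) * y := by group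
    have h1 : V ≤ Subgroup.centralizer ({g₀ * d₂ ^ k} : Set T) := by
      rw [← hV]
      apply sup_le
      · intro a ha
        rw [Subgroup.mem_centralizer_singleton_iff]
        exact h.Zcen a ha _
      · rw [Subgroup.zpowers_le, Subgroup.mem_centralizer_singleton_iff]
        exact hcy
    rw [Subgroup.mem_centralizer_iff]
    intro a ha
    exact Subgroup.mem_centralizer_singleton_iff.mp (h1 ha)
  · have : Psi d₂ (g₀ * d₂ ^ k) = y := by rw [hy]; unfold Psi; group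
    rw [this]
    exact hg₀

end Cfg

/-! ### invariance under automorphisms -/

theorem centralizer_iff (φ : MulAut T) (H : Subgroup T) (h : ∀ x, φ x ∈ H ↔ x ∈ H) (x : T) :
    φ x ∈ Subgroup.centralizer (H : Set T) ↔ x ∈ Subgroup.centralizer (H : Set T) := by
  rw [Subgroup.mem_centralizer_iff, Subgroup.mem_centralizer_iff]
  constructor
  · intro h1 y hy
    have := h1 (φ y) ((h y).mpr hy)
    rw [← map_mul, ← map_mul] at this
    exact φ.injective this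
  · intro h1 y hy
    obtain ⟨y', rfl⟩ := φ.surjective y
    rw [← map_mul, ← map_mul, h1 y' ((h y').mp hy)]

theorem relZ_iff (φ : MulAut T) (K : Subgroup T) [K.Normal] (h : ∀ x, φ x ∈ K ↔ x ∈ K) (x : T) :
    φ x ∈ relZ K ↔ x ∈ relZ K := by
  rw [mem_relZ, mem_relZ]
  constructor
  · intro h1 g
    have := h1 (φ g)
    rw [← map_inv, ← map_inv, ← map_mul, ← map_mul, ← map_mul] at this
    exact (h _).mp this
  · intro h1 g
    obtain ⟨g', rfl⟩ := φ.surjective g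
    rw [← map_inv, ← map_inv, ← map_mul, ← map_mul, ← map_mul]
    exact (h _).mpr (h1 g')

theorem mem_iff_of_finite [Finite T] (φ : MulAut T) (D : Subgroup T) (h : ∀ x ∈ D, φ x ∈ D)
    (x : T) : φ x ∈ D ↔ x ∈ D := by
  refine ⟨fun hx => ?_, h x⟩
  let f : D → D := fun y => ⟨φ y, h y y.2⟩
  have hf : Function.Injective f := by
    intro a b hab
    exact Subtype.ext (φ.injective (congrArg Subtype.val hab))
  obtain ⟨y, hy⟩ := (Finite.injective_iff_surjective.mp hf) ⟨φ x, hx⟩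
  have : φ y = φ x := congrArg Subtype.val hy
  rw [← φ.injective this]
  exact y.2

theorem Z0_iff (φ : MulAut T) (D : Subgroup T) (h : ∀ x, φ x ∈ D ↔ x ∈ D) (x : T) :
    φ x ∈ Z0 D ↔ x ∈ Z0 D := by
  unfold Z0
  rw [Subgroup.mem_inf, Subgroup.mem_inf, h, centralizer_iff φ D h]

theorem V0_iff (φ : MulAut T) (D : Subgroup T) [D.Normal] (h : ∀ x, φ x ∈ D ↔ x ∈ D) (x : T) :
    φ x ∈ V0 D ↔ x ∈ V0 D := by
  unfold V0
  rw [Subgroup.mem_inf, Subgroup.mem_inf, h, relZ_iff φ (Z0 D) (Z0_iff φ D h)]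

end Cfsg.Agent.Lib.Helper26.Rank2G2
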