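import Mathlib
import Cfsg.Agent.Lib.Helper26.Rank2G2c

set_option autoImplicit false

namespace Cfsg.Agent.Lib.Helper26.Rank2G2

open Cfsg.Agent.Lib.Helper86.Rank2

variable {T : Type*} [Group T]

theorem bezout {p : ℕ} [hp : Fact p.Prime] (k : ℤ) (hk : (k : ZMod p) ≠ 0) :
    ∃ α β : ℤ, α * k + β * p = 1 := by
  have h1 : ¬ (p : ℤ) ∣ k := fun h => hk ((ZMod.intCast_zmod_eq_zero_iff_dvd k p).mpr h)
  have h2 : IsCoprime (p : ℤ) k :=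
    (Nat.prime_iff_prime_int.mp hp.out).irreducible.coprime_iff_not_dvd.mpr h1
  obtain ⟨a, b, hab⟩ := h2
  exact ⟨b, a, by linarith⟩

theorem cast_eq_of_zpow_eq {p : ℕ} {z : T} (hz : orderOf z = p) {m n : ℤ}
    (h : z ^ m = z ^ n) : (m : ZMod p) = n := by
  rw [zpow_eq_zpow_iff_modEq, hz] at h
  exact (ZMod.intCast_eq_intCast_iff m n p).mpr h

namespace Cfg

variable {p : ℕ} {D Z V : Subgroup T} {d₂ : T}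

/-- equivariance of `Psi`. -/
theorem delta_Psi (h : Cfg p D Z V d₂) (δ : MulAut T) (b : ℕ) (v : T) (hv : v ∈ V)
    (hδd₂ : δ d₂ = d₂ ^ b * v) (x : T) (hX : δ x ∈ Subgroup.centralizer (V : Set T)) :
    δ (Psi d₂ x) = (d₂ * Psi d₂ (δ x) * d₂⁻¹ * (Psi d₂ (δ x))⁻¹) ^ (b.choose 2) *
      Psi d₂ (δ x) ^ b := by
  set X := δ x with hXdef
  set w := Psi d₂ X with hw
  have hwV : w ∈ V := h.Psi_mem X
  have h1 : δ (Psi d₂ x) = X * (d₂ ^ b * v) * X⁻¹ * (d₂ ^ b * v)⁻¹ := by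
    unfold Psi
    rw [map_mul, map_mul, map_mul, map_inv, map_inv, hδd₂]
  have hXv : v * X = X * v := Subgroup.mem_centralizer_iff.mp hX v hv
  have h2 : X * d₂ ^ b * X⁻¹ = (w * d₂) ^ b := by
    rw [← conj_pow]
    congr 1
    rw [hw]; unfold Psi; group
  have hζ : d₂ * w * d₂⁻¹ * w⁻¹ ∈ Z := h.TV d₂ w hwV
  have h3 := Cfsg.Agent.Lib.Helper59.mul_pow_of_central_comm w d₂ (d₂ * w * d₂⁻¹ * w⁻¹)
    (by group) (h.Zcen _ hζ) b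
  have hXv' : v * X⁻¹ = X⁻¹ * v := by
    calc v * X⁻¹ = X⁻¹ * (X * v) * X⁻¹ := by group
      _ = X⁻¹ * (v * X) * X⁻¹ := by rw [hXv]
      _ = X⁻¹ * v := by group
  calc δ (Psi d₂ x) = X * (d₂ ^ b * v) * X⁻¹ * (d₂ ^ b * v)⁻¹ := h1
    _ = X * d₂ ^ b * (v * X⁻¹) * v⁻¹ * (d₂ ^ b)⁻¹ := by group
    _ = X * d₂ ^ b * (X⁻¹ * v) * v⁻¹ * (d₂ ^ b)⁻¹ := by rw [hXv']
    _ = (X * d₂ ^ b * X⁻¹) * (d₂ ^ b)⁻¹ := by group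
    _ = (d₂ * w * d₂⁻¹ * w⁻¹) ^ (b.choose 2) * (w ^ b * d₂ ^ b) * (d₂ ^ b)⁻¹ := by rw [h2, h3]
    _ = _ := by group

theorem orderOf_eq (h : Cfg p D Z V d₂) [hp : Fact p.Prime] {z : T} (hz : z ∈ Z) (hz1 : z ≠ 1) :
    orderOf z = p :=
  orderOf_eq_prime (h.Dexp z (h.VD (h.ZV hz))) hz1

theorem weights (h : Cfg p D Z V d₂) [hp : Fact p.Prime] (δ : MulAut T)
    (hδV : ∀ x, δ x ∈ V ↔ x ∈ V) (ω b : ℕ) (hω : ∀ z ∈ Z, δ z = z ^ ω) (v : T) (hv : v ∈ V)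
    (hδd₂ : δ d₂ = d₂ ^ b * v) (c : T) (hc : c ∈ Subgroup.centralizer (V : Set T))
    (hcZ : Psi d₂ c ∉ Z) :
    ∃ (ν s : ℤ) (y₀ : T), y₀ ∈ Subgroup.centralizer (D : Set T) ∧
      δ c = c ^ ν * (Psi d₂ c) ^ s * y₀ ∧ (ω : ZMod p) = ν * b * b := by
  have hδM := centralizer_iff δ V hδV
  set d₁ := Psi d₂ c with hd₁
  have hd₁V : d₁ ∈ V := h.Psi_mem c
  set z0 := Psi d₂ d₁ with hz0
  have hz0Z : z0 ∈ Z := h.Psi_mem_Z hd₁V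
  have hz0ne : z0 ≠ 1 := fun h1 => hcZ (h.mem_Z_of_Psi hd₁V h1)
  have hord : orderOf z0 = p := h.orderOf_eq hz0Z hz0ne
  have hδc : δ c ∈ Subgroup.centralizer (V : Set T) := (hδM c).mpr hc
  set w₁ := Psi d₂ (δ c) with hw₁
  have hw₁V : w₁ ∈ V := h.Psi_mem _
  obtain ⟨ν, hν⟩ := h.exists_zpow hz0Z hz0ne (h.Psi_mem_Z hw₁V)
  -- first weight
  have e1 := h.delta_Psi δ b v hv hδd₂ c hδc
  rw [← hd₁, ← hw₁] at e1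
  have hζ₁ : (d₂ * w₁ * d₂⁻¹ * w₁⁻¹) ^ (b.choose 2) ∈ Z := Z.pow_mem (h.TV d₂ w₁ hw₁V) _
  have hδd₁V : δ d₁ ∈ V := (hδV d₁).mpr hd₁V
  have e2 := h.delta_Psi δ b v hv hδd₂ d₁ (h.V_le hδd₁V)
  rw [← hz0] at e2
  have hw₂ : Psi d₂ (δ d₁) = (z0 ^ ν) ^ b := by
    rw [e1, h.Psi_mul (h.V_le (h.ZV hζ₁)), h.Psi_Z hζ₁, one_mul, h.Psi_pow (h.V_le hw₁V), hν]
  have hw₂Z : Psi d₂ (δ d₁) ∈ Z := h.Psi_mem_Z hδd₁V
  have hone : d₂ * Psi d₂ (δ d₁) * d₂⁻¹ * (Psi d₂ (δ d₁))⁻¹ = 1 := by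
    rw [← h.Zcen _ hw₂Z d₂]
    group
  rw [hone, one_pow, one_mul, hw₂, hω z0 hz0Z] at e2
  have e3 : z0 ^ (ω : ℤ) = z0 ^ (ν * b * b) := by
    rw [zpow_natCast, e2, zpow_mul, zpow_mul, zpow_natCast, zpow_natCast]
  have e4 := cast_eq_of_zpow_eq hord e3
  -- the decomposition of `δ c`
  have hcν : (c ^ ν)⁻¹ ∈ Subgroup.centralizer (V : Set T) :=
    Subgroup.inv_mem _ (Subgroup.zpow_mem _ hc ν)
  set e := (c ^ ν)⁻¹ * δ c with he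
  have heM : e ∈ Subgroup.centralizer (V : Set T) := Subgroup.mul_mem _ hcν hδc
  have hPe : Psi d₂ e = (d₁ ^ ν)⁻¹ * w₁ := by
    rw [he, h.Psi_mul hcν, h.Psi_inv (Subgroup.zpow_mem _ hc ν), h.Psi_zpow hc]
  have hd₁ν : (d₁ ^ ν)⁻¹ ∈ V := V.inv_mem (V.zpow_mem hd₁V ν)
  have hPPe : Psi d₂ (Psi d₂ e) = 1 := by
    rw [hPe, h.Psi_mul (h.V_le hd₁ν), h.Psi_inv (h.V_le (V.zpow_mem hd₁V ν)),
      h.Psi_zpow (h.V_le hd₁V), hν]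
    group
  have hPeZ : Psi d₂ e ∈ Z := h.mem_Z_of_Psi (h.Psi_mem e) hPPe
  obtain ⟨s, hs⟩ := h.exists_zpow hz0Z hz0ne hPeZ
  have hd₁s : (d₁ ^ s)⁻¹ ∈ Subgroup.centralizer (V : Set T) :=
    h.V_le (V.inv_mem (V.zpow_mem hd₁V s))
  refine ⟨ν, s, (d₁ ^ s)⁻¹ * e, ?_, ?_, ?_⟩
  · apply h.mem_of_Psi_eq_one (Subgroup.mul_mem _ hd₁s heM)
    rw [h.Psi_mul hd₁s, h.Psi_inv (h.V_le (V.zpow_mem hd₁V s)), h.Psi_zpow (h.V_le hd₁V), ← hs,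
      ← hz0]
    group
  · rw [he]; group
  · simpa using e4

end Cfg

end Cfsg.Agent.Lib.Helper26.Rank2G2
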