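import Mathlib
import Cfsg.Agent.Lib.Helper26.Rank2G2d

set_option autoImplicit false

namespace Cfsg.Agent.Lib.Helper26.Rank2G2

open Cfsg.Agent.Lib.Helper86.Rank2

variable {T : Type*} [Group T]

namespace Cfg

variable {p : ℕ} {D Z V : Subgroup T} {d₂ : T}

theorem mem_V_of_pow (h : Cfg p D Z V d₂) [Finite T] (hrk : Cfsg.PRankLE p 2 T) {x : T}
    (hx : x ∈ Subgroup.centralizer (V : Set T)) (hxp : x ^ p = 1) : x ∈ V :=
  mem_of_rank hrk V h.Vcomm (fun a ha => h.Dexp a (h.VD ha)) h.Vcard x hxp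
    (fun a ha => Subgroup.mem_centralizer_iff.mp hx a ha)

theorem exists_gen (h : Cfg p D Z V d₂) [Finite T] [hp : Fact p.Prime] (hp2 : p ≠ 2)
    (hT : IsPGroup p T) (hrk : Cfsg.PRankLE p 2 T) :
    ∃ z ∈ Subgroup.centralizer (D : Set T), ∀ y ∈ Subgroup.centralizer (D : Set T),
      ∃ k : ℤ, z ^ k = y := by
  have hmem : ∀ x : ↥(Subgroup.centralizer (D : Set T)), orderOf x = p → (x : T) ∈ Z := by
    intro x hx
    have h1 : (x : T) ^ p = 1 := by
      have := pow_orderOf_eq_one x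
      rw [hx] at this
      simpa using congrArg Subtype.val this
    have h2 := h.mem_V_of_pow hrk (h.C_le x.2) h1
    exact h.ZD _ (h.VD h2) x.2
  have hcyc : IsCyclic ↥(Subgroup.centralizer (D : Set T)) := by
    apply Cfsg.Agent.Lib.Helper59.isCyclic_of_unique_odd hp2 (hT.to_subgroup _)
    intro x y hx hy
    have hx1 : (x : T) ≠ 1 := by
      intro h1
      have : x = 1 := Subtype.ext h1
      rw [this, orderOf_one] at hx
      exact hp.out.one_lt.ne hx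
    obtain ⟨k, hk⟩ := h.exists_zpow (hmem x hx) hx1 (hmem y hy)
    exact ⟨k, Subtype.ext (by simpa using hk)⟩
  obtain ⟨g, hg⟩ := hcyc.exists_generator
  refine ⟨g.1, g.2, fun y hy => ?_⟩
  obtain ⟨k, hk⟩ := hg ⟨y, hy⟩
  exact ⟨k, by simpa using congrArg Subtype.val hk⟩

theorem core (h : Cfg p D Z V d₂) [Finite T] [hp : Fact p.Prime] (hp2 : p ≠ 2)
    (hT : IsPGroup p T) (hrk : Cfsg.PRankLE p 2 T) [D.Normal] (δ : MulAut T)
    (hδD : ∀ x, δ x ∈ D ↔ x ∈ D) (hδV : ∀ x, δ x ∈ V ↔ x ∈ V) (ω b : ℕ)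
    (hω : ∀ z ∈ Z, δ z = z ^ ω) (v : T) (hv : v ∈ V) (hδd₂ : δ d₂ = d₂ ^ b * v) (c : T)
    (hc : c ∈ Subgroup.centralizer (V : Set T)) (hcZ : Psi d₂ c ∉ Z) :
    b ^ 2 ≡ 1 [MOD p] ∨ ω ≡ b ^ 2 [MOD p] := by
  obtain ⟨ν, s, y₀, hy₀, hδc, hwt⟩ := h.weights δ hδV ω b hω v hv hδd₂ c hc hcZ
  have hδC := centralizer_iff δ D hδD
  set d₁ := Psi d₂ c with hd₁
  have hd₁V : d₁ ∈ V := h.Psi_mem c
  set z0 := Psi d₂ d₁ with hz0
  have hz0Z : z0 ∈ Z := h.Psi_mem_Z hd₁V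
  have hz0ne : z0 ≠ 1 := fun h1 => hcZ (h.mem_Z_of_Psi hd₁V h1)
  have hord : orderOf z0 = p := h.orderOf_eq hz0Z hz0ne
  obtain ⟨z, hzC, hgen⟩ := h.exists_gen hp2 hT hrk
  have hCcomm : ∀ a ∈ Subgroup.centralizer (D : Set T), ∀ b ∈ Subgroup.centralizer (D : Set T),
      a * b = b * a := by
    intro a ha b hb
    obtain ⟨i, rfl⟩ := hgen a ha
    obtain ⟨j, rfl⟩ := hgen b hb
    rw [← zpow_add, ← zpow_add, add_comm]
  obtain ⟨u, hu⟩ := hgen (δ z) ((hδC z).mpr hzC)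
  have hδy : ∀ y ∈ Subgroup.centralizer (D : Set T), δ y = y ^ u := by
    intro y hy
    obtain ⟨k, rfl⟩ := hgen y hy
    rw [map_zpow, ← hu, ← zpow_mul, ← zpow_mul, mul_comm]
  have huω : (u : ZMod p) = ω := by
    have h1 : z0 ^ u = z0 ^ (ω : ℤ) := by
      rw [← hδy z0 (h.ZC hz0Z), hω z0 hz0Z, zpow_natCast]
    simpa using cast_eq_of_zpow_eq hord h1
  have hω0 : (ω : ZMod p) ≠ 0 := by
    intro h0
    have h1 : z0 ^ ω = 1 := by
      have h2 := (ZMod.natCast_eq_zero_iff _ _).mp h0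
      rw [← hord] at h2
      exact orderOf_dvd_iff_pow_eq_one.mp h2
    rw [← hω z0 hz0Z] at h1
    exact hz0ne ((map_eq_one_iff δ δ.injective).mp h1)
  have hcp : c ^ p ∈ Subgroup.centralizer (D : Set T) := by
    apply h.mem_of_Psi_eq_one (Subgroup.pow_mem _ hc p)
    rw [h.Psi_pow hc, ← hd₁]
    exact h.Dexp d₁ (h.VD hd₁V)
  have hcd₁ : Commute c d₁ := (Subgroup.mem_centralizer_iff.mp hc d₁ hd₁V).symm
  have hd₁C : ∀ y ∈ Subgroup.centralizer (D : Set T), Commute d₁ y := fun y hy =>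
    Subgroup.mem_centralizer_iff.mp hy d₁ (h.VD hd₁V)
  have hfin : (ν : ZMod p) = ω ∨ (ν : ZMod p) = 1 := by
    by_cases hcz : c * z = z * c
    · left
      have hcC : ∀ y ∈ Subgroup.centralizer (D : Set T), Commute c y := by
        intro y hy
        obtain ⟨k, rfl⟩ := hgen y hy
        exact (show Commute c z from hcz).zpow_right k
      rw [← huω]
      by_contra hne
      have hne' : ((u - ν : ℤ) : ZMod p) ≠ 0 := by
        push_cast
        intro h0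
        exact hne (sub_eq_zero.mp h0).symm
      obtain ⟨α, β, hαβ⟩ := bezout (p := p) (u - ν) hne'
      have e1 : (c ^ p) ^ u = (c ^ p) ^ ν * y₀ ^ p := by
        rw [← hδy _ hcp, map_pow, hδc]
        have c1 : Commute (c ^ ν) (d₁ ^ s) := (hcd₁.zpow_left ν).zpow_right s
        have c2 : Commute (c ^ ν * d₁ ^ s) y₀ :=
          ((hcC y₀ hy₀).zpow_left ν).mul_left ((hd₁C y₀ hy₀).zpow_left s)
        rw [c2.mul_pow, c1.mul_pow]
        have e2 : (d₁ ^ s) ^ p = 1 := by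
          rw [← zpow_natCast, ← zpow_mul, mul_comm, zpow_mul, zpow_natCast,
            h.Dexp d₁ (h.VD hd₁V), one_zpow]
        rw [e2, mul_one]
        congr 1
        rw [← zpow_natCast, ← zpow_natCast, ← zpow_mul, ← zpow_mul, mul_comm]
      have e3 : (c ^ p) ^ (u - ν) = y₀ ^ p := by
        rw [zpow_sub, e1]
        have : Commute ((c ^ p) ^ ν) (y₀ ^ p) :=
          (((hcC y₀ hy₀).pow_left p).zpow_left ν).pow_right p
        rw [this.eq]
        group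
      set y₁ := y₀ ^ α * (c ^ p) ^ β with hy₁
      have hy₁C : y₁ ∈ Subgroup.centralizer (D : Set T) :=
        Subgroup.mul_mem _ (Subgroup.zpow_mem _ hy₀ α) (Subgroup.zpow_mem _ hcp β)
      have e4 : c ^ p = y₁ ^ p := by
        have c3 : Commute (y₀ ^ α) ((c ^ p) ^ β) :=
          hCcomm _ (Subgroup.zpow_mem _ hy₀ α) _ (Subgroup.zpow_mem _ hcp β)
        rw [hy₁, c3.mul_pow]
        calc c ^ p = (c ^ p) ^ (α * (u - ν) + β * p) := by rw [hαβ, zpow_one]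
          _ = ((c ^ p) ^ (u - ν)) ^ α * ((c ^ p) ^ β) ^ p := by
            rw [zpow_add, mul_comm α, zpow_mul, zpow_mul, zpow_natCast]
          _ = (y₀ ^ α) ^ p * ((c ^ p) ^ β) ^ p := by
            rw [e3]
            congr 1
            rw [← zpow_natCast, ← zpow_natCast, ← zpow_mul, ← zpow_mul, mul_comm]
      have e5 : (c * y₁⁻¹) ^ p = 1 := by
        rw [((hcC y₁ hy₁C).inv_right).mul_pow, e4, inv_pow]
        group
      have hy₁M : y₁⁻¹ ∈ Subgroup.centralizer (D : Set T) := Subgroup.inv_mem _ hy₁C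
      have e6 := h.mem_V_of_pow hrk (Subgroup.mul_mem _ hc (h.C_le hy₁M)) e5
      have e7 := h.Psi_mem_Z e6
      rw [h.Psi_mul hc, h.Psi_eq_one_of_mem hy₁M, mul_one] at e7
      exact hcZ e7
    · right
      by_contra hne
      have hne' : ((ν - 1 : ℤ) : ZMod p) ≠ 0 := by
        push_cast
        intro h0
        exact hne (sub_eq_zero.mp h0)
      obtain ⟨α, β, hαβ⟩ := bezout (p := p) (ν - 1) hne'
      have hczC : c * z * c⁻¹ ∈ Subgroup.centralizer (D : Set T) :=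
        (inferInstance : (Subgroup.centralizer (D : Set T)).Normal).conj_mem z hzC c
      have hzu : z ^ u ∈ Subgroup.centralizer (D : Set T) := Subgroup.zpow_mem _ hzC u
      have e1 : c ^ ν * z ^ u * (c ^ ν)⁻¹ = c * z ^ u * c⁻¹ := by
        have a1 : δ (c * z * c⁻¹) = c * z ^ u * c⁻¹ := by
          rw [hδy _ hczC, conj_zpow]
        have a2 : δ (c * z * c⁻¹) = c ^ ν * z ^ u * (c ^ ν)⁻¹ := by
          rw [map_mul, map_mul, map_inv, hδc, ← hu]
          have c1 : Commute (d₁ ^ s * y₀) (z ^ u) :=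
            ((hd₁C _ hzu).zpow_left s).mul_left (hCcomm _ hy₀ _ hzu)
          calc c ^ ν * d₁ ^ s * y₀ * z ^ u * (c ^ ν * d₁ ^ s * y₀)⁻¹
              = c ^ ν * ((d₁ ^ s * y₀) * z ^ u) * (d₁ ^ s * y₀)⁻¹ * (c ^ ν)⁻¹ := by group
            _ = c ^ ν * (z ^ u * (d₁ ^ s * y₀)) * (d₁ ^ s * y₀)⁻¹ * (c ^ ν)⁻¹ := by rw [c1.eq]
            _ = _ := by group
        rw [← a2, a1]
      have e2 : Commute (c ^ (ν - 1)) (z ^ u) := by
        show c ^ (ν - 1) * z ^ u = z ^ u * c ^ (ν - 1)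
        calc c ^ (ν - 1) * z ^ u = c⁻¹ * (c ^ ν * z ^ u * (c ^ ν)⁻¹) * c ^ ν := by group
          _ = c⁻¹ * (c * z ^ u * c⁻¹) * c ^ ν := by rw [e1]
          _ = z ^ u * c ^ (ν - 1) := by group
      obtain ⟨m, hm⟩ := hgen (δ⁻¹ z) ((hδC _).mp (by simpa using hzC))
      have e3 : z = (z ^ u) ^ m := by
        have : δ (δ⁻¹ z) = z := by simp
        rw [← hm, map_zpow, ← hu] at this
        exact this.symm
      have e4 : Commute (c ^ (ν - 1)) z := by
        rw [e3]; exact e2.zpow_right m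
      have e5 : Commute (c ^ p) z := hCcomm _ hcp _ hzC
      apply hcz
      have e6 : c = (c ^ (ν - 1)) ^ α * (c ^ p) ^ β := by
        calc c = c ^ (α * (ν - 1) + β * p) := by rw [hαβ, zpow_one]
          _ = _ := by
            rw [zpow_add, mul_comm α, zpow_mul, mul_comm β, zpow_mul, zpow_natCast]
      have e7 : Commute ((c ^ (ν - 1)) ^ α * (c ^ p) ^ β) z :=
        (e4.zpow_left α).mul_left (e5.zpow_left β)
      rw [← e6] at e7
      exact e7.eq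
  rw [← ZMod.natCast_eq_natCast_iff, ← ZMod.natCast_eq_natCast_iff]
  push_cast
  rcases hfin with h1 | h1
  · left
    rw [h1] at hwt
    have : (ω : ZMod p) * ((b : ZMod p) ^ 2 - 1) = 0 := by linear_combination -hwt
    rcases mul_eq_zero.mp this with h2 | h2
    · exact absurd h2 hω0
    · exact sub_eq_zero.mp h2
  · right
    rw [h1] at hwt
    rw [hwt]; ring

end Cfg

theorem weight_lemma {T : Type*} [Group T] [Finite T] {p : ℕ} [Fact p.Prime] (hp : p ≠ 2)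
    (hT : IsPGroup p T) (hrk : Cfsg.PRankLE p 2 T)
    (D : Subgroup T) (hDn : D.Normal) (hDc : Nat.card D = p ^ 3) (hDe : ∀ x ∈ D, x ^ p = 1)
    (δ : MulAut T) (hδD : ∀ x ∈ D, δ x ∈ D) (ω b : ℕ)
    (hω : ∀ z, CenD D z → δ z = z ^ ω)
    (d₂ v g₀ : T) (hd₂ : d₂ ∈ D) (hg₀ : ¬ CenD D (g₀ * d₂ * g₀⁻¹ * d₂⁻¹))
    (hv : v ∈ D) (hvfix : ∀ g : T, CenD D (g * v * g⁻¹ * v⁻¹)) (hδd₂ : δ d₂ = d₂ ^ b * v) :
    b ^ 2 ≡ 1 [MOD p] ∨ ω ≡ b ^ 2 [MOD p] := by
  have h := exists_cfg hT hrk D hDc hDe d₂ g₀ hd₂ hg₀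
  have hδD' := mem_iff_of_finite δ D hδD
  obtain ⟨c, hc, hcZ⟩ := h.exists_c hT g₀ (fun h1 => hg₀ (mem_Z0.mp h1))
  exact h.core hp hT hrk δ hδD' (V0_iff δ D hδD') ω b (fun z hz => hω z (mem_Z0.mp hz)) v
    ⟨hv, mem_relZ.mpr (fun g => mem_Z0.mpr (hvfix g))⟩ hδd₂ c hc hcZ

end Cfsg.Agent.Lib.Helper26.Rank2G2
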