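import Mathlib
import Cfsg.Agent.Lib.Helper28.BG12b
import Cfsg.Agent.Lib.Helper68.BG10F
import Cfsg.Agent.Lib.Helper29.Cores
import Cfsg.Agent.Lib.Helper98.BG152FH1

/-!
Bender-Glauberman section 16 (statement S1389): the subgroups `M_F` and `M_s` are Hall subgroups of
`G` and the normalizers of their Sylow subgroups lie in `M`.
-/

set_option autoImplicit false

namespace Cfsg.Agent.Lib.Helper26.BG16

open Subgroup Cfsg Cfsg.Agent.Lib.Helper30 Cfsg.Agent.Lib.Helper28.BG12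

variable {G : Type*} [Group G] [Finite G]

/-- A Hall subgroup `N` of `M` all of whose primes lie in `σ(M)`: normalizers of Sylow subgroups. -/
theorem normalizer_sylow_le_of_sigma_hall {M N : Subgroup G} (hNM : N ≤ M)
    (hσ : ∀ p : ℕ, p.Prime → p ∣ Nat.card N → p ∈ Cfsg.sigma M)
    (hcop : (Nat.card N).Coprime (N.relIndex M)) (p : ℕ) (hp : p.Prime) (P : Sylow p ↥N)
    (hP1 : (P : Subgroup ↥N) ≠ ⊥) :
    normalizer ((((P : Subgroup ↥N).map N.subtype : Subgroup G)) : Set G) ≤ M := by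
  have : Fact p.Prime := ⟨hp⟩
  have hP := isSylowIn_of_sylow P
  set P0 := (P : Subgroup ↥N).map N.subtype with hP0
  have hP01 : P0 ≠ ⊥ := by
    intro h
    apply hP1
    rw [hP0] at h
    exact (Subgroup.map_eq_bot_iff_of_injective _ N.subtype_injective).1 h
  have hpN : p ∣ Nat.card N :=
    (dvd_card_of_isPGroup_ne_bot hP.isPGroup hP01).trans (card_dvd_of_le hP.le)
  have hPs : IsSylowIn p P0 M := by
    refine ⟨hP.le.trans hNM, hP.isPGroup, ?_⟩
    rw [← relIndex_mul_relIndex P0 N M hP.le hNM]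
    intro hd
    rcases (Nat.Prime.dvd_mul hp).mp hd with h | h
    · exact hP.not_dvd h
    · exact hp.one_lt.ne' (Nat.eq_one_of_dvd_coprimes hcop hpN h)
  exact Cfsg.Agent.Lib.Helper68.normalizer_le_of_mem_sigma (hσ p hp hpN) hPs

/-- A Hall subgroup `N` of `M` all of whose primes lie in `σ(M)` is a Hall subgroup of `G`. -/
theorem coprime_index_of_sigma_hall (hG : Cfsg.IsMinSimpleOddOrder G) {M N : Subgroup G}
    (hM : IsCoatom M) (hNM : N ≤ M)
    (hσ : ∀ p : ℕ, p.Prime → p ∣ Nat.card N → p ∈ Cfsg.sigma M)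
    (hcop : (Nat.card N).Coprime (N.relIndex M)) : (Nat.card N).Coprime N.index := by
  apply Nat.Coprime.symm
  apply Nat.coprime_of_dvd
  intro p hp hpi hpN
  have : Fact p.Prime := ⟨hp⟩
  rw [← relIndex_mul_index hNM] at hpi
  rcases (Nat.Prime.dvd_mul hp).mp hpi with h | h
  · exact hp.one_lt.ne' (Nat.eq_one_of_dvd_coprimes hcop hpN h)
  · obtain ⟨P, hP⟩ := exists_isSylowIn p M
    have hN := Cfsg.Agent.Lib.Helper68.normalizer_le_of_mem_sigma (hσ p hp hpN) hP
    have hPt := isSylowIn_top_of_normalizer_le hP hN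
    apply hPt.not_dvd
    rw [relIndex_top_right, ← relIndex_mul_index hP.le]
    exact Dvd.dvd.mul_left h _

theorem fittingHallOf_coprime_relIndex (M : Subgroup G) :
    (Nat.card (Cfsg.fittingHallOf M)).Coprime ((Cfsg.fittingHallOf M).relIndex M) := by
  have h := Cfsg.Agent.Lib.Helper29.card_fittingHall_coprime_index (G := M)
  have hrel : (Cfsg.fittingHallOf M).relIndex M = (Cfsg.fittingHall M).index := by
    unfold Cfsg.fittingHallOf
    rw [relIndex, subgroupOf, comap_map_eq_self_of_injective M.subtype_injective]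
  rw [Cfsg.Agent.Lib.Helper29.card_fittingHallOf, hrel]
  exact h

theorem mem_sigma_of_dvd_fittingHallOf (hG : Cfsg.IsMinSimpleOddOrder G) {M : Subgroup G}
    (hM : IsCoatom M) (p : ℕ) (hp : p.Prime) (h : p ∣ Nat.card (Cfsg.fittingHallOf M)) :
    p ∈ Cfsg.sigma M :=
  (sigmaCore_hall hG hM).2.1 p hp
    (h.trans (card_dvd_of_le (Cfsg.Agent.Lib.Helper98.BG152.fittingHallOf_le_sigmaCore hG hM)))

/-- Statement S1389 from: `M' = M_σ` for `M` of type III or IV. -/
theorem S1389_of (hG : Cfsg.IsMinSimpleOddOrder G) (M : Subgroup G) (hM : IsCoatom M)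
    (h34 : (Cfsg.IsOfTypeIII M ∨ Cfsg.IsOfTypeIV M) → Cfsg.sigmaCore M = ⁅M, M⁆) :
    (∀ (p : ℕ), p.Prime → ∀ (P : Sylow p ↥(Cfsg.typeCore M)),
        (P : Subgroup ↥(Cfsg.typeCore M)) ≠ ⊥ →
        Subgroup.normalizer ((((P : Subgroup ↥(Cfsg.typeCore M)).map
          (Cfsg.typeCore M).subtype : Subgroup G)) : Set G) ≤ M) ∧
      (Nat.card (Cfsg.fittingHallOf M)).Coprime (Cfsg.fittingHallOf M).index ∧
      (Nat.card (Cfsg.typeCore M)).Coprime (Cfsg.typeCore M).index := by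
  have hS := sigmaCore_hall hG hM
  have hF1 := Cfsg.Agent.Lib.Helper29.fittingHallOf_le M
  have hF2 := mem_sigma_of_dvd_fittingHallOf hG hM
  have hF3 := fittingHallOf_coprime_relIndex M
  have key : ∃ N : Subgroup G, Cfsg.typeCore M = N ∧ N ≤ M ∧
      (∀ p : ℕ, p.Prime → p ∣ Nat.card N → p ∈ Cfsg.sigma M) ∧
      (Nat.card N).Coprime (N.relIndex M) := by
    by_cases h : Cfsg.IsOfTypeIII M ∨ Cfsg.IsOfTypeIV M
    · refine ⟨Cfsg.sigmaCore M, ?_, sigmaCore_le M, hS.2.1,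
        Cfsg.Agent.Lib.Helper66.PiNum.coprime hS.2.1 hS.2.2⟩
      unfold Cfsg.typeCore
      rw [if_pos h, h34 h]
    · refine ⟨Cfsg.fittingHallOf M, ?_, hF1, hF2, hF3⟩
      unfold Cfsg.typeCore
      rw [if_neg h]
  obtain ⟨N, hN, hNM, hNσ, hNc⟩ := key
  rw [hN]
  exact ⟨fun p hp P hP => normalizer_sylow_le_of_sigma_hall hNM hNσ hNc p hp P hP,
    coprime_index_of_sigma_hall hG hM hF1 hF2 hF3, coprime_index_of_sigma_hall hG hM hNM hNσ hNc⟩

end Cfsg.Agent.Lib.Helper26.BG16
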