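import Mathlib
import Cfsg.Agent.Lib.Helper28.BG12b
import Cfsg.Agent.Lib.Helper98.FW.Derived
import Cfsg.Agent.Lib.Helper98.FW.Thompson
import Cfsg.Agent.Lib.Helper3.BG152B
import Cfsg.Agent.Lib.Helper66.PiHall
import Cfsg.Agent.Lib.Helper29.Cores
import Cfsg.Agent.Lib.Helper68.BG10F
import Cfsg.Agent.Lib.Helper74.Fitting
import Cfsg.Agent.Lib.Helper31.CN
import Cfsg.Agent.Lib.Helper98.BG152FH1
import Cfsg.Agent.Lib.Helper12.KW0
import Cfsg.Agent.Lib.Helper28.BG16a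
import Cfsg.Agent.Lib.Helper3.BG152C
import Cfsg.Agent.Lib.Helper26.BG16A

/-!
Bender-Glauberman section 15/16 (statement S1356): `M'' ≤ F(M) = C_M(M_F) M_F`, and `F(M) ≤ M'`
when `κ(M)` is nonempty.
-/

set_option autoImplicit false

namespace Cfsg.Agent.Lib.Helper26.BG16

open Subgroup Cfsg Cfsg.Agent.Lib.Helper30

variable {G : Type*} [Group G] [Finite G]

/-- In a nilpotent group a Hall subgroup is a direct factor. -/
theorem le_centralizer_sup_of_nilpotent_hall {N F : Subgroup G} (hN : Group.IsNilpotent N)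
    (hFN : F ≤ N) (hcop : (Nat.card F).Coprime (F.relIndex N)) :
    N ≤ (N ⊓ centralizer (F : Set G)) ⊔ F := by
  intro x hx
  set n := Nat.card F with hn
  set m := F.relIndex N with hm
  have hcard : Nat.card N = n * m := card_eq_card_mul_relIndex hFN
  have hxm : x ^ m ∈ F := by
    have h := Cfsg.Agent.Lib.Helper74.pow_index_mem_of_isNilpotent (F.subgroupOf N) ⟨x, hx⟩
    rw [mem_subgroupOf] at h
    rw [hm, relIndex]
    simpa using h
  have hxn : x ^ n ∈ N ⊓ centralizer (F : Set G) := by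
    refine mem_inf.mpr ⟨N.pow_mem hx n, ?_⟩
    rw [mem_centralizer_iff]
    intro f hf
    have h1 : orderOf (x ^ n) ∣ m := by
      apply orderOf_dvd_of_pow_eq_one
      rw [← pow_mul, ← hcard]
      exact Cfsg.Agent.Lib.Helper29.pow_card_subgroup_eq_one N hx
    have h2 : orderOf f ∣ n :=
      orderOf_dvd_of_pow_eq_one (Cfsg.Agent.Lib.Helper29.pow_card_subgroup_eq_one F hf)
    exact Cfsg.Agent.Lib.Helper31.commute_of_mem_nilpotent N hN (hFN hf) (N.pow_mem hx n)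
      (Nat.Coprime.coprime_dvd_left h2 (Nat.Coprime.coprime_dvd_right h1 hcop))
  have hb := Nat.gcd_eq_gcd_ab n m
  rw [hcop.gcd_eq_one] at hb
  have e : x = (x ^ n) ^ (Nat.gcdA n m) * (x ^ m) ^ (Nat.gcdB n m) := by
    rw [← zpow_natCast x n, ← zpow_natCast x m, ← zpow_mul, ← zpow_mul, ← zpow_add, ← hb]
    simp
  rw [e]
  exact mul_mem (le_sup_left (b := F) (zpow_mem hxn _))
    (le_sup_right (a := N ⊓ centralizer (F : Set G)) (zpow_mem hxm _))

theorem isNilpotent_of_le_central_product {N A B : Subgroup G} (hA : Group.IsNilpotent A)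
    (hB : Group.IsNilpotent B) (hN : N ≤ A ⊔ B) (hc : A ≤ centralizer (B : Set G)) :
    Group.IsNilpotent N := by
  have comm : ∀ (a : A) (b : B), Commute (A.subtype a) (B.subtype b) := by
    intro a b
    exact ((mem_centralizer_iff.mp (hc a.2)) b.1 b.2).symm
  let f : A × B →* G := MonoidHom.noncommCoprod A.subtype B.subtype comm
  have hr : f.range = A ⊔ B := by
    rw [MonoidHom.noncommCoprod_range, Subgroup.range_subtype, Subgroup.range_subtype]
  have h1 : Group.IsNilpotent f.range :=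
    Group.nilpotent_of_surjective f.rangeRestrict f.rangeRestrict_surjective
  rw [hr] at h1
  exact Cfsg.Agent.Lib.Helper12.isNilpotent_of_le hN h1

theorem le_fittingOf {M N : Subgroup G} (hNM : N ≤ M) (hMN : M ≤ normalizer (N : Set G))
    (hnil : Group.IsNilpotent N) : N ≤ Cfsg.fittingOf M := by
  have h1 : N.subgroupOf M ≤ Cfsg.fittingSubgroup M := by
    apply le_sSup
    exact ⟨normal_subgroupOf_of_le_normalizer hMN,
      Group.nilpotent_of_mulEquiv (subgroupOfEquivOfLe hNM).symm⟩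
  have h2 := Subgroup.map_mono (f := M.subtype) h1
  rwa [map_subgroupOf_eq_of_le hNM] at h2

theorem fittingOf_isNilpotent (M : Subgroup G) : Group.IsNilpotent (Cfsg.fittingOf M) :=
  have := Cfsg.Agent.Lib.Helper74.fittingSubgroup_isNilpotent M
  Group.nilpotent_of_mulEquiv
    ((Cfsg.fittingSubgroup M).equivMapOfInjective M.subtype M.subtype_injective)

omit [Finite G] in
theorem fittingOf_le (M : Subgroup G) : Cfsg.fittingOf M ≤ M := map_subtype_le _

theorem fittingHallOf_isNilpotent (M : Subgroup G) :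
    Group.IsNilpotent (Cfsg.fittingHallOf M) := by
  refine Cfsg.Agent.Lib.Helper12.isNilpotent_of_le (B := Cfsg.fittingOf M) ?_
    (fittingOf_isNilpotent M)
  apply Subgroup.map_mono
  exact sSup_le_sSup (fun N hN => ⟨hN.1, hN.2.1⟩)

omit [Finite G] in
theorem le_normalizer_fittingHallOf (M : Subgroup G) :
    M ≤ normalizer (Cfsg.fittingHallOf M : Set G) :=
  Cfsg.Agent.Lib.Helper28.le_normalizer_map_subtype (Cfsg.fittingHall_normal M)

theorem isNilpotent_cj {D : Subgroup G} (g : G) (hD : Group.IsNilpotent D) :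
    Group.IsNilpotent (Helper30.cj g D) :=
  (Group.isNilpotent_congr ((MulAut.conj g).subgroupMap D)).mp hD

/-- a `π`-subgroup of a solvable group with a nilpotent Hall `π`-subgroup is nilpotent -/
theorem isNilpotent_of_pi_of_hall {S D Y : Subgroup G} {π : Set ℕ} (hS : Group.IsSolvable S)
    (hD : IsPiHallOf π D S) (hDn : Group.IsNilpotent D) (hYS : Y ≤ S)
    (hY : ∀ p : ℕ, p.Prime → p ∣ Nat.card Y → p ∈ π) : Group.IsNilpotent Y := by
  obtain ⟨H, hH, -, hYH⟩ := Cfsg.Agent.Lib.Helper66.exists_invariant_isPiHallOf_ge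
    (π := π) (A := ⊥) (G := S) (U := Y) bot_le (by simp) hS hYS bot_le hY
  obtain ⟨g, -, e⟩ := Cfsg.Agent.Lib.Helper66.isPiHallOf_exists_conj hS hD hH
  exact Cfsg.Agent.Lib.Helper12.isNilpotent_of_le hYH (e ▸ isNilpotent_cj g hDn)

theorem isNilpotent_centralizer_normal_sylow {S Q D : Subgroup G} {q : ℕ} [Fact q.Prime]
    (hS : Group.IsSolvable S) (hQ : IsSylowIn q Q S) (hSQ : S ≤ normalizer (Q : Set G))
    (hD : IsPiHallOf {r | r ≠ q} D S) (hDn : Group.IsNilpotent D) :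
    Group.IsNilpotent ↥(S ⊓ centralizer (Q : Set G)) := by
  set C := S ⊓ centralizer (Q : Set G) with hC
  have hCS : C ≤ S := inf_le_left
  have hCs : Group.IsSolvable C := isSolvable_of_le hCS hS
  obtain ⟨Y, hY⟩ := Cfsg.Agent.Lib.Helper66.exists_isPiHallOf {r | r ≠ q} C hCs
  obtain ⟨P, hP⟩ := exists_isSylowIn q C
  have hYn : Group.IsNilpotent Y := isNilpotent_of_pi_of_hall hS hD hDn (hY.1.trans hCS) hY.2.1
  have hPQ : P ≤ Q :=
    Cfsg.Agent.Lib.Helper3.BG152.le_of_normal_sylow hQ hSQ (hP.le.trans hCS) hP.isPGroup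
  obtain ⟨n, hn⟩ := IsPGroup.iff_card.mp hP.isPGroup
  have hYq := Cfsg.Agent.Lib.Helper3.BG152.hall_coprime hY
  have hPY : (Nat.card P).Coprime (Nat.card Y) := by
    rw [hn]; exact (Nat.Coprime.pow_right n hYq).symm
  have hcC := Cfsg.Agent.Lib.Helper3.BG152.card_eq_sylow_mul_hall hP hY
  have hsup : C ≤ P ⊔ Y :=
    Cfsg.Agent.Lib.Helper3.BG152.le_sup_of_coprime_card hP.le hY.1 hPY (by rw [hcC])
  exact Cfsg.Agent.Lib.Helper56.BG152.isNilpotent_of_central_product hP.isPGroup hYn hsup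
    (hPQ.trans (le_centralizer_iff.1 (hY.1.trans inf_le_right)))

theorem le_commutator_of_fpf {M K U Y : Subgroup G} {π : Set ℕ} (hM : Group.IsSolvable M)
    (hKM : K ≤ M) (hU : IsPiHallOf π U M) (hKU : K ≤ normalizer (U : Set G))
    (hcop : (Nat.card K).Coprime (Nat.card U))
    (hfpf : U ⊓ centralizer (K : Set G) = ⊥) (hYM : Y ≤ M)
    (hY : ∀ p : ℕ, p.Prime → p ∣ Nat.card Y → p ∈ π) : Y ≤ ⁅M, M⁆ := by
  have hUM' : U ≤ ⁅M, M⁆ := by
    intro u hu
    obtain ⟨m, hm, c, hc, rfl⟩ := exists_commutator_mul_centralizer hKU hcop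
      (Or.inr (isSolvable_of_le hU.1 hM)) hu
    rw [hfpf, mem_bot] at hc
    rw [hc, mul_one]
    exact commutator_mono hU.1 hKM hm
  obtain ⟨H, hH, -, hYH⟩ := Cfsg.Agent.Lib.Helper66.exists_invariant_isPiHallOf_ge
    (π := π) (A := ⊥) (G := M) (U := Y) bot_le (by simp) hM hYM bot_le hY
  obtain ⟨g, hg, e⟩ := Cfsg.Agent.Lib.Helper66.isPiHallOf_exists_conj hM hU hH
  have hn : M ≤ normalizer ((⁅M, M⁆ : Subgroup G) : Set G) :=
    le_normalizer_commutator le_normalizer le_normalizer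
  calc Y ≤ H := hYH
    _ = Helper30.cj g U := e
    _ ≤ Helper30.cj g ⁅M, M⁆ := Helper30.cj_mono g hUM'
    _ = ⁅M, M⁆ := Helper30.cj_eq_of_mem_normalizer (hn hg)

theorem dvd_card_of_mem_tau2 {M : Subgroup G} {p : ℕ} (hp : p ∈ Cfsg.tau2 M) :
    p ∣ Nat.card M := by
  have : Fact p.Prime := ⟨hp.1⟩
  obtain ⟨A, hAM, -, hA⟩ := Cfsg.Agent.Lib.Helper28.BG12.exists_ea_sq_of_tau2 hp
  exact (Dvd.intro_left p (by rw [hA, sq])).trans (card_dvd_of_le hAM)

theorem not_mem_kappa_of_mem_tau2 {M : Subgroup G} {p : ℕ} (hp : p ∈ Cfsg.tau2 M) :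
    p ∉ Cfsg.kappa M := by
  intro hκ
  have : Fact p.Prime := ⟨hp.1⟩
  apply hp.2.2.2
  intro A hAc hA
  have hAp : IsPGroup p A := fun a => ⟨1, by
    rw [pow_one]; exact Subtype.ext (by simpa using hA a a.2)⟩
  obtain ⟨P, hAP⟩ := hAp.exists_le_sylow
  have hPc := (hκ.2.2.2 P).1
  have hAcyc : IsCyclic A :=
    isCyclic_of_injective (inclusion hAP) (inclusion_injective _)
  obtain ⟨g, hg⟩ := hAcyc.exists_generator
  rw [pow_one, ← orderOf_eq_card_of_forall_mem_zpowers hg]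
  apply orderOf_le_of_pow_eq_one hp.1.pos
  exact Subtype.ext (by simpa using hA g g.2)

/-- `M' ≤ S A'` when `M = S A`, `S` normal in `M`. -/
theorem commutator_le_sup_commutator {M S A : Subgroup G} (hMS : M ≤ normalizer (S : Set G))
    (hAM : A ≤ M) (hMSA : M ≤ S ⊔ A) : ⁅M, M⁆ ≤ S ⊔ ⁅A, A⁆ := by
  have hAS : A ≤ normalizer (S : Set G) := hAM.trans hMS
  have hAT : A ≤ normalizer ((S ⊔ ⁅A, A⁆ : Subgroup G) : Set G) :=
    le_normalizer_sup hAS (le_normalizer_commutator le_normalizer le_normalizer)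
  have hST : S ≤ normalizer ((S ⊔ ⁅A, A⁆ : Subgroup G) : Set G) := le_sup_left.trans le_normalizer
  have hSAS : S ⊔ A ≤ normalizer (S : Set G) := sup_le le_normalizer hAS
  have h1 : ⁅A, S ⊔ A⁆ ≤ S ⊔ ⁅A, A⁆ := by
    refine Cfsg.Agent.Lib.Helper3.BG117.commutator_sup_le ?_ le_sup_right hST hAT
    rw [commutator_comm]
    exact (commutator_le_of_le_normalizer hAS).trans le_sup_left
  have h2 : ⁅S, S ⊔ A⁆ ≤ S ⊔ ⁅A, A⁆ := (commutator_le_of_le_normalizer hSAS).trans le_sup_left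
  refine (commutator_mono hMSA hMSA).trans ?_
  refine Cfsg.Agent.Lib.Helper3.BG117.commutator_sup_le ?_ ?_ hST hAT
  · rw [commutator_comm]; exact h2
  · rw [commutator_comm]; exact h1

theorem commutator_self_le (A : Subgroup G) : ⁅A, A⁆ ≤ A :=
  commutator_le_of_le_normalizer le_normalizer

/-- `M'' ≤ S` when `M = S E`, `S` normal in `M`, `E'` abelian. -/
theorem derived_two_le_of_compl {M S E : Subgroup G} (hMS : M ≤ normalizer (S : Set G))
    (hEM : E ≤ M) (hMSE : M ≤ S ⊔ E) (hE : ⁅⁅E, E⁆, ⁅E, E⁆⁆ = ⊥) : ⁅⁅M, M⁆, ⁅M, M⁆⁆ ≤ S := by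
  have h1 := commutator_le_sup_commutator hMS hEM hMSE
  have hT : S ⊔ ⁅E, E⁆ ≤ normalizer (S : Set G) :=
    sup_le le_normalizer (((commutator_self_le E).trans hEM).trans hMS)
  have h2 := commutator_le_sup_commutator (M := S ⊔ ⁅E, E⁆) (S := S) (A := ⁅E, E⁆) hT le_sup_right
    le_rfl
  rw [hE, sup_bot_eq] at h2
  exact (commutator_mono h1 h1).trans h2

theorem commutator_eq_bot_of_isMulCommutative {A : Subgroup G} (h : IsMulCommutative A) :
    ⁅A, A⁆ = ⊥ := by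
  rw [commutator_eq_bot_iff_le_centralizer]
  intro a ha
  rw [mem_centralizer_iff]
  intro b hb
  exact Cfsg.Agent.Lib.Helper28.BG12.comm_of_isMulCommutative h hb ha

theorem le_sup_of_isComplIn {A B M : Subgroup G} (h : Cfsg.IsComplIn A B M) : M ≤ B ⊔ A := by
  intro m hm
  obtain ⟨a, ha, b, hb, rfl⟩ := h.2.2.2 m hm
  exact mul_mem (le_sup_right (a := B) ha) (le_sup_left (b := A) hb)

/-- the data of the non-nilpotent case. -/
structure NData (M K Q D : Subgroup G) (q : ℕ) : Prop where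
  prime : q.Prime
  sylow : IsSylowIn q Q (Cfsg.sigmaCore M)
  normal : M ≤ normalizer (Q : Set G)
  le : Q ≤ Cfsg.fittingHallOf M
  hall : IsPiHallOf {r | r ≠ q} D (Cfsg.sigmaCore M)
  nil : Group.IsNilpotent D
  sup : Cfsg.sigmaCore M ≤ Q ⊔ D
  cent : ⁅D, D⁆ ≤ centralizer (Q : Set G)
  msup : M ≤ Cfsg.sigmaCore M ⊔ K
  khall : IsPiHallOf (Cfsg.kappa M) K M
  der : Cfsg.sigmaCore M = ⁅M, M⁆

theorem exists_nData (hG : Cfsg.IsMinSimpleOddOrder G) (M : Subgroup G) (hM : IsCoatom M)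
    (hdec : ∃ K U : Subgroup G, Cfsg.IsSigmaDecomposition M K U)
    (h37 : ∀ K U : Subgroup G, Cfsg.IsSigmaDecomposition M K U →
      Cfsg.fittingHallOf M ≠ Cfsg.sigmaCore M →
      U = ⊥ ∧ Cfsg.sigmaCore M = ⁅M, M⁆ ∧ (Nat.card K).Prime ∧
      (Nat.card ↥(Cfsg.sigmaCore M ⊓ centralizer (K : Set G))).Prime ∧
      ∃ Q : Subgroup G, Q ≤ Cfsg.fittingHallOf M ∧ M ≤ normalizer (Q : Set G) ∧
        IsPGroup (Nat.card ↥(Cfsg.sigmaCore M ⊓ centralizer (K : Set G))) Q ∧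
        ¬ Nat.card ↥(Cfsg.sigmaCore M ⊓ centralizer (K : Set G)) ∣ Q.relIndex (Cfsg.sigmaCore M))
    (h30a : ∀ K : Subgroup G, Cfsg.IsPiHallOf (Cfsg.kappa M) K M → K ≠ ⊥ → ∀ k ∈ K, k ≠ 1 →
      Cfsg.sigmaCore M ⊓ centralizer ({k} : Set G) = Cfsg.sigmaCore M ⊓ centralizer (K : Set G))
    (hne : Cfsg.fittingHallOf M ≠ Cfsg.sigmaCore M) :
    ∃ (K Q D : Subgroup G) (q : ℕ), NData M K Q D q := by
  obtain ⟨K, U, hKU⟩ := hdec
  obtain ⟨hU, hder, hKp, hqp, Q, hQF, hMQ, hQp, hQi⟩ := h37 K U hKU hne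
  set S := Cfsg.sigmaCore M with hSdef
  set q := Nat.card ↥(S ⊓ centralizer (K : Set G)) with hq
  have : Fact q.Prime := ⟨hqp⟩
  have hS := Cfsg.Agent.Lib.Helper28.BG12.sigmaCore_hall hG hM
  have hSM : S ≤ M := Cfsg.Agent.Lib.Helper28.BG12.sigmaCore_le M
  have hMS : M ≤ normalizer (S : Set G) := Cfsg.Agent.Lib.Helper28.BG12.le_normalizer_sigmaCore M
  have hMs : Group.IsSolvable M := solvable_of_ne_top hG hM.1
  have hSs : Group.IsSolvable S := isSolvable_of_le hSM hMs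
  have hK1 : K ≠ ⊥ := by
    rintro rfl
    rw [card_bot] at hKp
    exact Nat.not_prime_one hKp
  have hKM : K ≤ M := hKU.hall.1
  have hKS : K ≤ normalizer (S : Set G) := hKM.trans hMS
  have hQS : Q ≤ S := hQF.trans (Cfsg.Agent.Lib.Helper98.BG152.fittingHallOf_le_sigmaCore hG hM)
  have hQ : IsSylowIn q Q S := ⟨hQS, hQp, hQi⟩
  have hcop : (Nat.card K).Coprime (Nat.card S) := by
    apply Nat.Coprime.symm
    apply Nat.coprime_of_dvd
    intro p hp hpS hpK
    exact (hKU.hall.2.1 p hp hpK).2.2.1 (hS.2.1 p hp hpS)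
  have hMSK : M ≤ S ⊔ K := by
    have h := le_sup_of_isComplIn hKU.compl
    rw [hU, sup_bot_eq, sup_comm] at h
    exact h
  have hpa := h30a K hKU.hall hK1
  obtain ⟨n, hn⟩ := IsPGroup.iff_card.mp hQ.isPGroup
  obtain ⟨D, hD, hKD⟩ := Cfsg.Agent.Lib.Helper66.exists_invariant_isPiHallOf hKS hcop hSs
    {r | r ≠ q}
  have hDq := Cfsg.Agent.Lib.Helper3.BG152.hall_coprime hD
  have hDKs : D ⊓ (S ⊓ centralizer (K : Set G)) = ⊥ :=
    (disjoint_of_coprime_natCard (by rw [← hq]; exact hDq)).eq_bot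
  have hfpf : ∀ k ∈ K, k ≠ 1 → ∀ d ∈ D, k * d = d * k → d = 1 := by
    intro k hk hk1 d hd hkd
    have h1 : d ∈ S ⊓ centralizer ({k} : Set G) :=
      mem_inf.mpr ⟨hD.1 hd, mem_centralizer_singleton_iff.mpr hkd.symm⟩
    rw [hpa k hk hk1] at h1
    have h2 : d ∈ D ⊓ (S ⊓ centralizer (K : Set G)) := mem_inf.mpr ⟨hd, h1⟩
    rwa [hDKs, mem_bot] at h2
  have hDnil : Group.IsNilpotent D :=
    Cfsg.Agent.Lib.Helper98.FW.isNilpotent_of_fpf D K hK1 hKD hfpf
  have hcS := Cfsg.Agent.Lib.Helper3.BG152.card_eq_sylow_mul_hall hQ hD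
  have hQD : (Nat.card Q).Coprime (Nat.card D) := by
    rw [hn]; exact (Nat.Coprime.pow_right n hDq).symm
  have hSsup : S ≤ Q ⊔ D :=
    Cfsg.Agent.Lib.Helper3.BG152.le_sup_of_coprime_card hQ.le hD.1 hQD (by rw [hcS])
  have hDM : D ≤ M := hD.1.trans hSM
  have hQK : (Nat.card Q).Coprime (Nat.card K) :=
    Nat.Coprime.coprime_dvd_left (card_dvd_of_le hQ.le) hcop.symm
  have hcopQ : (Nat.card Q).Coprime (Nat.card ↥(D ⊔ K)) := by
    have h1 := Cfsg.Agent.Lib.Helper12.card_sup_mul_card_inf' K D hKD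
    have h2 : Nat.card ↥(D ⊔ K) ∣ Nat.card K * Nat.card D := by
      rw [sup_comm]; exact Dvd.intro _ h1
    exact Nat.Coprime.coprime_dvd_right h2 (Nat.Coprime.mul_right hQK hQD)
  have hcyc : IsCyclic ↥(Q ⊓ centralizer (K : Set G)) := by
    have h1 : IsCyclic ↥(S ⊓ centralizer (K : Set G)) := isCyclic_of_prime_card hq.symm
    exact isCyclic_of_injective (inclusion (inf_le_inf_right _ hQS)) (inclusion_injective _)
  have hcent := Cfsg.Agent.Lib.Helper98.FW.fw_derived' D K hK1 hKD hfpf Q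
    (sup_le (hDM.trans hMQ) (hKM.trans hMQ)) (isSolvable_of_le hQS hSs) hcopQ hcyc
  exact ⟨K, Q, D, q, hqp, hQ, hMQ, hQF, hD, hDnil, hSsup, hcent, hMSK, hKU.hall, hder⟩

theorem isNilpotent_of_isCyclic {X : Subgroup G} (h : IsCyclic X) : Group.IsNilpotent X := by
  letI := IsCyclic.commGroup (α := X)
  infer_instance

theorem S1356_of (hG : Cfsg.IsMinSimpleOddOrder G) (M : Subgroup G) (hM : IsCoatom M)
    (h20 : ∀ E : Subgroup G, Cfsg.IsComplIn E (Cfsg.sigmaCore M) M → IsMulCommutative ↥⁅E, E⁆)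
    (h26 : ∀ E : Subgroup G, Cfsg.IsComplIn E (Cfsg.sigmaCore M) M →
      ⁅Cfsg.sigmaCore M, E⁆ = Cfsg.sigmaCore M)
    (hdec : ∃ K U : Subgroup G, Cfsg.IsSigmaDecomposition M K U)
    (h37 : ∀ K U : Subgroup G, Cfsg.IsSigmaDecomposition M K U →
      Cfsg.fittingHallOf M ≠ Cfsg.sigmaCore M →
      U = ⊥ ∧ Cfsg.sigmaCore M = ⁅M, M⁆ ∧ (Nat.card K).Prime ∧
      (Nat.card ↥(Cfsg.sigmaCore M ⊓ centralizer (K : Set G))).Prime ∧
      ∃ Q : Subgroup G, Q ≤ Cfsg.fittingHallOf M ∧ M ≤ normalizer (Q : Set G) ∧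
        IsPGroup (Nat.card ↥(Cfsg.sigmaCore M ⊓ centralizer (K : Set G))) Q ∧
        ¬ Nat.card ↥(Cfsg.sigmaCore M ⊓ centralizer (K : Set G)) ∣ Q.relIndex (Cfsg.sigmaCore M))
    (h30a : ∀ K : Subgroup G, Cfsg.IsPiHallOf (Cfsg.kappa M) K M → K ≠ ⊥ → ∀ k ∈ K, k ≠ 1 →
      Cfsg.sigmaCore M ⊓ centralizer ({k} : Set G) = Cfsg.sigmaCore M ⊓ centralizer (K : Set G))
    (h30b : ∀ K : Subgroup G, Cfsg.IsPiHallOf (Cfsg.kappa M) K M → K ≠ ⊥ →
      ∃ U : Subgroup G,
        Cfsg.IsPiHallOf {q | q.Prime ∧ q ∉ Cfsg.kappa M ∧ q ∉ Cfsg.sigma M} U M ∧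
        K ≤ normalizer (U : Set G) ∧ ∀ k ∈ K, k ≠ 1 → U ⊓ centralizer ({k} : Set G) = ⊥)
    (h38 : ∀ H : Subgroup G, H ≤ Cfsg.sigmaCore M → H ≠ ⊥ →
      (Nat.card H).Coprime (H.relIndex (Cfsg.sigmaCore M)) →
      ∃ X : Subgroup G, IsCyclic X ∧ (∀ p : ℕ, p.Prime → p ∣ Nat.card X → p ∈ Cfsg.tau2 M) ∧
        M ⊓ centralizer (H : Set G) = (Cfsg.sigmaCore M ⊓ centralizer (H : Set G)) ⊔ X)
    (h39 : (∀ p : ℕ, p.Prime →
        p ∣ Nat.card ↥(Cfsg.piCoreOf {q | q.Prime ∧ q ∉ Cfsg.sigma M} (Cfsg.fittingOf M)) →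
        p ∈ Cfsg.tau2 M) ∧
      Cfsg.fittingOf M = Cfsg.fittingOf (Cfsg.sigmaCore M) ⊔
        Cfsg.piCoreOf {q | q.Prime ∧ q ∉ Cfsg.sigma M} (Cfsg.fittingOf M)) :
    ⁅⁅M, M⁆, ⁅M, M⁆⁆ ≤ Cfsg.fittingOf M ∧
      Cfsg.fittingOf M =
        (M ⊓ Subgroup.centralizer (Cfsg.fittingHallOf M : Set G)) ⊔ Cfsg.fittingHallOf M ∧
      ((Cfsg.kappa M).Nonempty → Cfsg.fittingOf M ≤ ⁅M, M⁆) := by
  have hS := Cfsg.Agent.Lib.Helper28.BG12.sigmaCore_hall hG hM
  have hSM : Cfsg.sigmaCore M ≤ M := Cfsg.Agent.Lib.Helper28.BG12.sigmaCore_le M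
  have hMS : M ≤ normalizer (Cfsg.sigmaCore M : Set G) :=
    Cfsg.Agent.Lib.Helper28.BG12.le_normalizer_sigmaCore M
  have hMs : Group.IsSolvable M := solvable_of_ne_top hG hM.1
  have hSs : Group.IsSolvable (Cfsg.sigmaCore M) := isSolvable_of_le hSM hMs
  have hFM := Cfsg.Agent.Lib.Helper29.fittingHallOf_le M
  have hFS := Cfsg.Agent.Lib.Helper98.BG152.fittingHallOf_le_sigmaCore hG hM
  have hMF := le_normalizer_fittingHallOf M
  have hFnil := fittingHallOf_isNilpotent M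
  have hFcop := fittingHallOf_coprime_relIndex M
  obtain ⟨E, hE, -⟩ := Cfsg.Agent.Lib.Helper28.BG12.exists_compl_ge hG hM (X := ⊥) bot_le
    (by
      intro q hq hqd
      rw [card_bot] at hqd
      exact absurd (Nat.dvd_one.1 hqd) hq.one_lt.ne')
  have hne_of : ¬ Group.IsNilpotent (Cfsg.sigmaCore M) →
      Cfsg.fittingHallOf M ≠ Cfsg.sigmaCore M := fun hnil h => hnil (h ▸ hFnil)
  refine ⟨?_, ?_, ?_⟩
  · -- `M'' ≤ F(M)`
    by_cases hnil : Group.IsNilpotent (Cfsg.sigmaCore M)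
    · exact (derived_two_le_of_compl hMS hE.1 (le_sup_of_isComplIn hE)
        (commutator_eq_bot_of_isMulCommutative (h20 E hE))).trans (le_fittingOf hSM hMS hnil)
    · obtain ⟨K, Q, D, q, d⟩ := exists_nData hG M hM hdec h37 h30a (hne_of hnil)
      have : Fact q.Prime := ⟨d.prime⟩
      have h1 : ⁅Cfsg.sigmaCore M, Cfsg.sigmaCore M⁆ ≤ Q ⊔ ⁅D, D⁆ :=
        commutator_le_sup_commutator (hSM.trans d.normal) d.hall.1 d.sup
      have h2 : Group.IsNilpotent ↥⁅Cfsg.sigmaCore M, Cfsg.sigmaCore M⁆ :=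
        Cfsg.Agent.Lib.Helper56.BG152.isNilpotent_of_central_product d.sylow.isPGroup
          (Cfsg.Agent.Lib.Helper12.isNilpotent_of_le (commutator_self_le D) d.nil) h1
          (le_centralizer_iff.1 d.cent)
      rw [← d.der]
      exact le_fittingOf ((commutator_self_le _).trans hSM) (le_normalizer_commutator hMS hMS) h2
  · -- `F(M) = C_M(M_F) M_F`
    have hFfit : Cfsg.fittingHallOf M ≤ Cfsg.fittingOf M := le_fittingOf hFM hMF hFnil
    apply le_antisymm
    · have hcop' : (Nat.card (Cfsg.fittingHallOf M)).Coprime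
          ((Cfsg.fittingHallOf M).relIndex (Cfsg.fittingOf M)) :=
        Nat.Coprime.coprime_dvd_right
          (Dvd.intro _ (relIndex_mul_relIndex _ _ M hFfit (fittingOf_le M))) hFcop
      exact (le_centralizer_sup_of_nilpotent_hall (fittingOf_isNilpotent M) hFfit hcop').trans
        (sup_le_sup_right (inf_le_inf_right _ (fittingOf_le M)) _)
    · refine sup_le ?_ hFfit
      refine le_fittingOf inf_le_left (le_normalizer_inf le_normalizer
        (hMF.trans (normalizer_le_normalizer_centralizer _))) ?_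
      have hcopS : (Nat.card (Cfsg.fittingHallOf M)).Coprime
          ((Cfsg.fittingHallOf M).relIndex (Cfsg.sigmaCore M)) :=
        Nat.Coprime.coprime_dvd_right
          (Dvd.intro _ (relIndex_mul_relIndex _ _ M hFS hSM)) hFcop
      by_cases hnil : Group.IsNilpotent (Cfsg.sigmaCore M)
      · have hFeq := Cfsg.Agent.Lib.Helper3.BG152.fittingHallOf_eq_of_nilpotent hG hM hnil
        have hF1 : Cfsg.fittingHallOf M ≠ ⊥ := by
          rw [hFeq]; exact Cfsg.Agent.Lib.Helper28.BG12.sigmaCore_ne_bot hG hM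
        obtain ⟨X, hXc, -, hX⟩ := h38 _ hFS hF1 hcopS
        have hXle : X ≤ M ⊓ centralizer (Cfsg.fittingHallOf M : Set G) := by
          rw [hX]; exact le_sup_right
        refine isNilpotent_of_le_central_product
          (A := Cfsg.sigmaCore M ⊓ centralizer (Cfsg.fittingHallOf M : Set G)) (B := X)
          (Cfsg.Agent.Lib.Helper12.isNilpotent_of_le inf_le_left hnil)
          (isNilpotent_of_isCyclic hXc) hX.le ?_
        refine le_trans ?_ (le_centralizer_iff.1 (hXle.trans inf_le_right))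
        rw [hFeq]; exact inf_le_left
      · obtain ⟨K, Q, D, q, d⟩ := exists_nData hG M hM hdec h37 h30a (hne_of hnil)
        have : Fact q.Prime := ⟨d.prime⟩
        have hF1 : Cfsg.fittingHallOf M ≠ ⊥ := by
          intro h
          have hQ1 : Q = ⊥ := le_bot_iff.1 (h ▸ d.le)
          apply hnil
          have h3 := d.sup
          rw [hQ1, bot_sup_eq] at h3
          exact Cfsg.Agent.Lib.Helper12.isNilpotent_of_le h3 d.nil
        obtain ⟨X, -, hXτ, hX⟩ := h38 _ hFS hF1 hcopS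
        have hX1 : X = ⊥ := by
          by_contra hXne
          have hc1 : Nat.card X ≠ 1 := fun h => hXne (card_eq_one.mp h)
          obtain ⟨p, hp, hpX⟩ := Nat.exists_prime_and_dvd hc1
          have hpτ := hXτ p hp hpX
          have hpM := dvd_card_of_mem_tau2 hpτ
          have hKS : K ≤ normalizer (Cfsg.sigmaCore M : Set G) := d.khall.1.trans hMS
          have h1 := Cfsg.Agent.Lib.Helper12.card_sup_mul_card_inf' K (Cfsg.sigmaCore M) hKS
          have h2 : Nat.card M ∣ Nat.card K * Nat.card (Cfsg.sigmaCore M) := by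
            refine (card_dvd_of_le d.msup).trans ?_
            rw [sup_comm]; exact Dvd.intro _ h1
          rcases (Nat.Prime.dvd_mul hp).mp (hpM.trans h2) with h | h
          · exact not_mem_kappa_of_mem_tau2 hpτ (d.khall.2.1 p hp h)
          · exact hpτ.2.1 (hS.2.1 p hp h)
        rw [hX, hX1, sup_bot_eq]
        exact Cfsg.Agent.Lib.Helper12.isNilpotent_of_le
          (inf_le_inf_left _ (centralizer_le d.le))
          (isNilpotent_centralizer_normal_sylow hSs d.sylow (hSM.trans d.normal) d.hall d.nil)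
  · -- `F(M) ≤ M'`
    rintro ⟨p, hp⟩
    obtain ⟨K, U, hKU⟩ := hdec
    have hK1 : K ≠ ⊥ := by
      rintro rfl
      apply hKU.hall.2.2 p hp.1 hp
      rw [relIndex_bot_left]
      exact hp.2.1
    obtain ⟨U', hU', hKU', hfp⟩ := h30b K hKU.hall hK1
    have hSM' : Cfsg.sigmaCore M ≤ ⁅M, M⁆ := by
      rw [← h26 E hE]
      exact commutator_mono hSM hE.1
    rw [h39.2]
    refine sup_le ((fittingOf_le _).trans hSM') ?_
    have hcop : (Nat.card K).Coprime (Nat.card U') := by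
      apply Nat.coprime_of_dvd
      intro r hr hrK hrU
      exact (hU'.2.1 r hr hrU).2.1 (hKU.hall.2.1 r hr hrK)
    have hfpf : U' ⊓ centralizer (K : Set G) = ⊥ := by
      obtain ⟨⟨k, hk⟩, hk1'⟩ := Subgroup.ne_bot_iff_exists_ne_one.mp hK1
      have hk1 : k ≠ 1 := fun h => hk1' (Subtype.ext h)
      rw [eq_bot_iff, ← hfp k hk hk1]
      exact inf_le_inf_left _ (centralizer_le (by simpa using hk))
    refine le_commutator_of_fpf hMs hKU.hall.1 hU' hKU' hcop hfpf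
      ((map_subtype_le _).trans (fittingOf_le M)) ?_
    intro r hr hrY
    have hτ := h39.1 r hr hrY
    exact ⟨hr, not_mem_kappa_of_mem_tau2 hτ, hτ.2.1⟩

end Cfsg.Agent.Lib.Helper26.BG16
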