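import Cfsg.Agent.Lib.Helper39.BG11Defs
import Cfsg.Agent.Lib.Helper54.CoprimeGen
import Cfsg.Agent.Lib.Helper26.Rank2G2a

/-!
B-G section 11 (rung 4b of helper39's S1417 ladder): a Sylow `p`-subgroup of `M` containing `A`
centralizes `A`.
-/

set_option autoImplicit false
set_option linter.unusedSectionVars false

namespace Cfsg.Agent.Lib.Helper26.BG11

open Subgroup Cfsg.Agent.Lib.Helper30 Cfsg.Agent.Lib.Helper39.BG11

universe u

variable {G : Type u} [Group G] [Finite G] {M A A₀ : Subgroup G} {p : ℕ} [Fact p.Prime]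

/-- a chief step of a `p`-group is central (subgroup form). -/
theorem comm_mem_of_card {T W A : Subgroup G} (hT : IsPGroup p T) (hWA : W ≤ A) (hAT : A ≤ T)
    (hTW : T ≤ normalizer (W : Set G)) (hTA : T ≤ normalizer (A : Set G))
    (hc : Nat.card A = p * Nat.card W) : ∀ x ∈ T, ∀ b ∈ A, x * b * x⁻¹ * b⁻¹ ∈ W := by
  have i1 : (W.subgroupOf T).Normal := (normal_subgroupOf_iff_le_normalizer (hWA.trans hAT)).mpr hTW
  have i2 : (A.subgroupOf T).Normal := (normal_subgroupOf_iff_le_normalizer hAT).mpr hTA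
  have h1 := Cfsg.Agent.Lib.Helper26.Rank2G2.le_relZ_of_card (T := ↥T) hT (W.subgroupOf T)
    (A.subgroupOf T) (fun y hy => mem_subgroupOf.mpr (hWA (mem_subgroupOf.mp hy)))
    (by rw [card_subgroupOf hAT, card_subgroupOf (hWA.trans hAT)]; exact hc)
  intro x hx b hb
  have h2 := Cfsg.Agent.Lib.Helper26.Rank2G2.mem_relZ.mp
    (h1 (show (⟨b, hAT hb⟩ : T) ∈ A.subgroupOf T from mem_subgroupOf.mpr hb)) ⟨x, hx⟩
  exact mem_subgroupOf.mp h2

theorem card_eq_prime_of_ne {W A : Subgroup G} (hA : Nat.card A = p ^ 2) (hWA : W ≤ A) (h1 : W ≠ ⊥)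
    (h2 : W ≠ A) : Nat.card W = p := by
  have hd : Nat.card W ∣ p ^ 2 := hA ▸ card_dvd_of_le hWA
  obtain ⟨k, hk, hk'⟩ := (Nat.dvd_prime_pow Fact.out).mp hd
  interval_cases k
  · exact absurd (Subgroup.card_eq_one.mp (by simpa using hk')) h1
  · simpa using hk'
  · exact absurd (Subgroup.eq_of_le_of_card_ge hWA (by rw [hA, hk'])) h2

theorem eq_or_eq_of_card {W L A : Subgroup G} (hW : Nat.card W = p) (hA : Nat.card A = p ^ 2)
    (hWL : W ≤ L) (hLA : L ≤ A) : L = W ∨ L = A := by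
  by_cases h : L = A
  · exact Or.inr h
  left
  have h1 : L ≠ ⊥ := by
    rintro rfl
    have : W = ⊥ := le_bot_iff.mp hWL
    rw [this, Subgroup.card_bot] at hW
    exact (Fact.out : p.Prime).one_lt.ne hW
  have h2 := card_eq_prime_of_ne hA hLA h1 h
  exact (Subgroup.eq_of_le_of_card_ge hWL (by rw [hW, h2])).symm

theorem exists_zpow_eq {W : Subgroup G} (hW : Nat.card W = p) {c w : G} (hc : c ∈ W) (hc1 : c ≠ 1)
    (hw : w ∈ W) : ∃ k : ℤ, c ^ k = w := by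
  have h1 : (⟨c, hc⟩ : W) ≠ 1 := fun h => hc1 (congrArg Subtype.val h)
  obtain ⟨k, hk⟩ := mem_zpowers_of_prime_card hW h1 (g' := ⟨w, hw⟩)
  exact ⟨k, by simpa using congrArg Subtype.val hk⟩

theorem not_isCyclic_of_ea (hea : Cfsg.IsElementaryAbelian p A) (hc : Nat.card A = p ^ 2) :
    ¬ IsCyclic A := by
  intro h
  obtain ⟨g, hg⟩ := IsCyclic.exists_ofOrder_eq_natCard (α := A)
  have h1 : g ^ p = 1 := Subtype.ext (by simpa using hea.2 g g.2)
  have h2 := orderOf_dvd_of_pow_eq_one h1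
  rw [hg, hc] at h2
  have h3 := Nat.le_of_dvd (Fact.out : p.Prime).pos h2
  have := (Fact.out : p.Prime).one_lt
  nlinarith

theorem exists_fixed_ne_one (hea : Cfsg.IsElementaryAbelian p A) (hc : Nat.card A = p ^ 2)
    {K : Subgroup G} (hAK : A ≤ normalizer (K : Set G)) (hcop : (Nat.card A).Coprime (Nat.card K))
    (hK : K ≠ ⊥) : ∃ a ∈ A, a ≠ 1 ∧ ∃ u ∈ K, u ≠ 1 ∧ a * u = u * a := by
  by_contra hcon
  push Not at hcon
  have := hea.1
  have h1 := Cfsg.Agent.Lib.Helper54.iSup_inf_centralizer_eq_of_not_isCyclic A K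
    (not_isCyclic_of_ea hea hc) hAK hcop
  apply hK
  rw [← h1, eq_bot_iff]
  refine iSup₂_le ?_
  rintro a ⟨ha, ha1⟩ u hu
  rw [mem_bot]
  by_contra hu1
  exact hcon a ha ha1 u (mem_inf.mp hu).1 hu1 (mem_centralizer_singleton_iff.mp (mem_inf.mp hu).2).symm

/-- the linear algebra: `⟨x⟩` and powers are transitive on `A ∖ W`. -/
theorem exists_conj_zpow {W : Subgroup G} {x a₁ a₂ : G} (hea : Cfsg.IsElementaryAbelian p A)
    (hW : Nat.card W = p) (hWA : W ≤ A)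
    (hδ : ∀ b ∈ A, x * b * x⁻¹ * b⁻¹ ∈ W) (hxW : ∀ w ∈ W, x * w = w * x)
    (hker : ∀ b ∈ A, x * b = b * x → b ∈ W)
    (ha₁ : a₁ ∈ A) (ha₁W : a₁ ∉ W) (ha₂ : a₂ ∈ A) (ha₂W : a₂ ∉ W) :
    ∃ i j : ℤ, a₂ = x ^ i * a₁ ^ j * (x ^ i)⁻¹ := by
  have hcomm : ∀ a ∈ A, ∀ b ∈ A, a * b = b * a := fun a ha b hb =>
    Cfsg.Agent.Lib.Helper2.ea_comm hea ha hb
  set c₁ := x * a₁ * x⁻¹ * a₁⁻¹ with hc₁
  set c₂ := x * a₂ * x⁻¹ * a₂⁻¹ with hc₂
  have hc₁W : c₁ ∈ W := hδ a₁ ha₁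
  have hc₂W : c₂ ∈ W := hδ a₂ ha₂
  have hc₁1 : c₁ ≠ 1 := by
    intro h
    apply ha₁W (hker a₁ ha₁ _)
    calc x * a₁ = c₁ * (a₁ * x) := by rw [hc₁]; group
      _ = a₁ * x := by rw [h, one_mul]
  have hc₂1 : c₂ ≠ 1 := by
    intro h
    apply ha₂W (hker a₂ ha₂ _)
    calc x * a₂ = c₂ * (a₂ * x) := by rw [hc₂]; group
      _ = a₂ * x := by rw [h, one_mul]
  obtain ⟨j, hj⟩ := exists_zpow_eq hW hc₁W hc₁1 hc₂W
  set b := a₁ ^ j with hb
  have hbA : b ∈ A := A.zpow_mem ha₁ j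
  have hxb : x * b * x⁻¹ = c₂ * b := by
    rw [hb, ← conj_zpow, ← hj, ← (show Commute c₁ a₁ from hcomm _ (hWA hc₁W) _ ha₁).mul_zpow]
    congr 1
    rw [hc₁]; group
  have hxa₂ : x * a₂ * x⁻¹ = c₂ * a₂ := by rw [hc₂]; group
  set w := a₂ * b⁻¹ with hw
  have hwA : w ∈ A := A.mul_mem ha₂ (A.inv_mem hbA)
  have hwW : w ∈ W := by
    apply hker w hwA
    have h1 : x * w * x⁻¹ = w := by
      calc x * w * x⁻¹ = (x * a₂ * x⁻¹) * (x * b * x⁻¹)⁻¹ := by rw [hw]; group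
        _ = c₂ * a₂ * (c₂ * b)⁻¹ := by rw [hxa₂, hxb]
        _ = c₂ * (a₂ * b⁻¹) * c₂⁻¹ := by group
        _ = (a₂ * b⁻¹) * c₂ * c₂⁻¹ := by rw [hcomm c₂ (hWA hc₂W) (a₂ * b⁻¹) hwA]
        _ = w := by rw [hw]; group
    calc x * w = (x * w * x⁻¹) * x := by group
      _ = w * x := by rw [h1]
  obtain ⟨i, hi⟩ := exists_zpow_eq hW hc₂W hc₂1 hwW
  refine ⟨i, j, ?_⟩
  have h1 : b⁻¹ * x * b⁻¹⁻¹ = c₂ * x := by
    have h2 : x * b = c₂ * b * x := by
      calc x * b = (x * b * x⁻¹) * x := by group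
        _ = c₂ * b * x := by rw [hxb]
    calc b⁻¹ * x * b⁻¹⁻¹ = b⁻¹ * (x * b) := by group
      _ = b⁻¹ * (c₂ * b * x) := by rw [h2]
      _ = b⁻¹ * (b * c₂ * x) := by rw [hcomm c₂ (hWA hc₂W) b hbA]
      _ = c₂ * x := by group
  have h3 : b⁻¹ * x ^ i * b⁻¹⁻¹ = c₂ ^ i * x ^ i := by
    rw [← conj_zpow, h1, (show Commute c₂ x from (hxW c₂ hc₂W).symm).mul_zpow]
  calc a₂ = w * b := by rw [hw]; group
    _ = b * w := hcomm w hwA b hbA
    _ = b * (c₂ ^ i * x ^ i) * (x ^ i)⁻¹ := by rw [hi]; group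
    _ = b * (b⁻¹ * x ^ i * b⁻¹⁻¹) * (x ^ i)⁻¹ := by rw [h3]
    _ = x ^ i * b * (x ^ i)⁻¹ := by group

theorem le_centralizer_of_sylow (hG : Cfsg.IsMinSimpleOddOrder G) (h : Hyp M p A A₀)
    (h1 : NoCommon M A) (hne : Cfsg.sigmaCore M ≠ ⊥)
    (hom : ∀ x ∈ centralizer (A : Set G), x ^ p = 1 ↔ x ∈ A) {P : Subgroup G}
    (hP : IsSylowIn p P M) (hAP : A ≤ P) : P ≤ centralizer (A : Set G) := by
  by_contra hcon
  have hpp : p.Prime := Fact.out
  set S := Cfsg.sigmaCore M with hS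
  have hMS : M ≤ normalizer (S : Set G) := Cfsg.Agent.Lib.Helper28.BG12.le_normalizer_sigmaCore M
  have hcomm : ∀ a ∈ A, ∀ b ∈ A, a * b = b * a := fun a ha b hb =>
    Cfsg.Agent.Lib.Helper2.ea_comm h.ea ha hb
  have hA1 : A ≠ ⊥ := by
    intro e
    have h1 := h.card
    rw [e, Subgroup.card_bot] at h1
    nlinarith [Nat.one_lt_pow (n := 2) (by norm_num) hpp.one_lt]
  have hP1 : P ≠ ⊥ := fun e => hA1 (le_bot_iff.mp (e ▸ hAP))
  -- the element `g`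
  have hNP : ¬ normalizer (P : Set G) ≤ M := fun hN =>
    h.ns (Cfsg.Agent.Lib.Helper68.mem_sigma_of_normalizer_le hP hP1 hN)
  obtain ⟨g, hgP, hgM⟩ := SetLike.not_le_iff_exists.mp hNP
  have hgP' : Helper30.cj g P = P := cj_eq_of_mem_normalizer hgP
  have hAg : A ≤ Helper30.cj g M := by
    calc A ≤ P := hAP
      _ = Helper30.cj g P := hgP'.symm
      _ ≤ Helper30.cj g M := Helper30.cj_mono g hP.le
  -- the prime `q`
  obtain ⟨q, hq, hqS⟩ := Nat.exists_prime_and_dvd (n := Nat.card S)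
    (fun e => hne (Subgroup.card_eq_one.mp e))
  have : Fact q.Prime := ⟨hq⟩
  have hpS : ¬ p ∣ Nat.card S := fun hd =>
    h.ns ((Cfsg.Agent.Lib.Helper28.BG12.sigmaCore_hall hG h.max).2.1 p hpp hd)
  have hcopP : (Nat.card P).Coprime (Nat.card S) := by
    obtain ⟨n, hn⟩ := IsPGroup.iff_card.mp hP.isPGroup
    rw [hn]
    exact Nat.Coprime.pow_left n ((Nat.Prime.coprime_iff_not_dvd hpp).mpr hpS)
  have hPtop : P ≠ ⊤ := fun e => h.max.1 (top_le_iff.mp (e ▸ hP.le))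
  obtain ⟨Q₁, hQ₁, hPQ₁⟩ := exists_invariant_isSylowIn (hP.le.trans hMS) hcopP
    (Or.inl (solvable_of_ne_top hG hPtop)) q
  have hQ₁1 : Q₁ ≠ ⊥ := by
    rintro rfl
    apply hQ₁.not_dvd
    rwa [relIndex_bot_left]
  set Q₂ := Helper30.cj g Q₁ with hQ₂def
  have hQ₂ : IsSylowIn q Q₂ (Helper30.cj g S) := hQ₁.cj g
  have hPQ₂ : P ≤ normalizer (Q₂ : Set G) := by
    rw [hQ₂def, normalizer_cj, ← hgP']
    exact Helper30.cj_mono g hPQ₁
  have hQ₂1 : Q₂ ≠ ⊥ := by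
    intro e
    apply hQ₁1
    rw [← Subgroup.card_eq_one, ← Helper30.card_cj g, ← hQ₂def, e]
    exact Subgroup.card_bot
  -- (i)
  have hi : ∀ a ∈ A, a ≠ 1 → ∀ u₁ ∈ Q₁, u₁ ≠ 1 → a * u₁ = u₁ * a → ∀ u₂ ∈ Q₂, u₂ ≠ 1 →
      a * u₂ = u₂ * a → False := by
    intro a ha ha1 u₁ hu₁ hu₁1 hc₁ u₂ hu₂ hu₂1 hc₂
    refine h1 g hgM hAg q Q₁ Q₂ (centralizer {a}) hQ₁ hQ₂ (hAP.trans hPQ₁) (hAP.trans hPQ₂)
      (centralizer_singleton_ne_top hG ha1) ?_ ?_ ?_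
    · intro b hb
      exact mem_centralizer_singleton_iff.mpr (hcomm b hb a ha)
    · intro e
      apply hu₁1
      rw [← mem_bot, ← e]
      exact mem_inf.mpr ⟨mem_centralizer_singleton_iff.mpr hc₁.symm, hu₁⟩
    · intro e
      apply hu₂1
      rw [← mem_bot, ← e]
      exact mem_inf.mpr ⟨mem_centralizer_singleton_iff.mpr hc₂.symm, hu₂⟩
  -- (ii)
  have hcopA : ∀ K : Subgroup G, Nat.card K = Nat.card Q₁ → (Nat.card A).Coprime (Nat.card K) := by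
    intro K hK
    rw [hK]
    exact Nat.Coprime.coprime_dvd_left (card_dvd_of_le hAP)
      (Nat.Coprime.coprime_dvd_right (card_dvd_of_le hQ₁.le) hcopP)
  obtain ⟨a₁, ha₁, ha₁1, u₁, hu₁, hu₁1, hc₁⟩ :=
    exists_fixed_ne_one h.ea h.card (hAP.trans hPQ₁) (hcopA Q₁ rfl) hQ₁1
  obtain ⟨a₂, ha₂, ha₂1, u₂, hu₂, hu₂1, hc₂⟩ :=
    exists_fixed_ne_one h.ea h.card (hAP.trans hPQ₂) (hcopA Q₂ (Helper30.card_cj g Q₁)) hQ₂1
  -- (iii) `W = Ω₁(Z(P))`
  set W := A ⊓ centralizer (P : Set G) with hWdef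
  have hWA : W ≤ A := inf_le_left
  have hWne : W ≠ A := by
    intro e
    apply hcon
    have h2 : A ≤ centralizer (P : Set G) := e ▸ (inf_le_right : W ≤ _)
    exact le_centralizer_iff.mp h2
  have hCPA : centralizer (P : Set G) ≤ centralizer (A : Set G) :=
    centralizer_le (SetLike.coe_subset_coe.mpr hAP)
  have hW1 : W ≠ ⊥ := by
    have : Nontrivial P := (Subgroup.nontrivial_iff_ne_bot P).mpr hP1
    have hnt := hP.isPGroup.center_nontrivial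
    have hd : p ∣ Nat.card (center P) := by
      obtain ⟨n, hn⟩ := IsPGroup.iff_card.mp (hP.isPGroup.to_subgroup (center P))
      rcases Nat.eq_zero_or_pos n with rfl | hpos
      · rw [pow_zero] at hn
        exact absurd hn (Finite.one_lt_card (α := center P)).ne'
      · rw [hn]; exact dvd_pow_self p hpos.ne'
    obtain ⟨z, hz⟩ := exists_prime_orderOf_dvd_card' p hd
    have hz1 : ((z : P) : G) ≠ 1 := by
      intro e
      have : z = 1 := Subtype.ext (Subtype.ext e)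
      rw [this, orderOf_one] at hz
      exact hpp.one_lt.ne hz
    have hzp : ((z : P) : G) ^ p = 1 := by
      have := pow_orderOf_eq_one z
      rw [hz] at this
      simpa using congrArg (fun y : center P => ((y : P) : G)) this
    have hzc : ((z : P) : G) ∈ centralizer (P : Set G) := by
      rw [mem_centralizer_iff]
      intro y hy
      have := mem_center_iff.mp z.2 ⟨y, hy⟩
      simpa using congrArg Subtype.val this
    intro e
    apply hz1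
    rw [← mem_bot, ← e]
    exact mem_inf.mpr ⟨(hom _ (hCPA hzc)).mp hzp, hzc⟩
  have hWc : Nat.card W = p := card_eq_prime_of_ne h.card hWA hW1 hWne
  have hgW : g ∈ normalizer (W : Set G) := by
    apply Cfsg.Agent.Lib.Helper28.BG12.mem_normalizer_of_cj_le'
    intro y hy
    have hy' := Helper30.mem_cj.mp hy
    have hyc : y ∈ centralizer (P : Set G) := by
      have h2 : y ∈ Helper30.cj g (centralizer (P : Set G)) := Helper30.mem_cj.mpr (mem_inf.mp hy').2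
      rwa [← centralizer_cj, hgP'] at h2
    refine mem_inf.mpr ⟨(hom y (hCPA hyc)).mp ?_, hyc⟩
    have h3 := h.ea.2 _ (mem_inf.mp hy').1
    have h4 : y = g * (g⁻¹ * y * g) * g⁻¹ := by group
    rw [h4, conj_pow, h3]; group
  have hcW : ∀ a ∈ W, a ≠ 1 → ∀ u : G, a * u = u * a → ∀ w ∈ W, w * u = u * w := by
    intro a ha ha1 u hu w hw
    obtain ⟨k, rfl⟩ := exists_zpow_eq hWc ha ha1 hw
    exact (show Commute a u from hu).zpow_left k
  have hW₁ : ∀ a ∈ W, a ≠ 1 → ∀ u ∈ Q₁, u ≠ 1 → a * u ≠ u * a := by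
    intro a ha ha1 u hu hu1 hc
    refine hi a (hWA ha) ha1 u hu hu1 hc (g * u * g⁻¹) (Helper30.conj_mem_cj hu) ?_ ?_
    · intro e
      apply hu1
      have : u = g⁻¹ * (g * u * g⁻¹) * g := by group
      rw [this, e]; group
    · have h2 : g⁻¹ * a * g⁻¹⁻¹ ∈ W :=
        (mem_normalizer_iff.mp ((normalizer (W : Set G)).inv_mem hgW) a).mp ha
      have h3 := hcW a ha ha1 u hc _ h2
      calc a * (g * u * g⁻¹) = g * ((g⁻¹ * a * g⁻¹⁻¹) * u) * g⁻¹ := by group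
        _ = g * (u * (g⁻¹ * a * g⁻¹⁻¹)) * g⁻¹ := by rw [h3]
        _ = g * u * g⁻¹ * a := by group
  have hW₂ : ∀ a ∈ W, a ≠ 1 → ∀ u ∈ Q₂, u ≠ 1 → a * u ≠ u * a := by
    intro a ha ha1 u hu hu1 hc
    refine hi a (hWA ha) ha1 (g⁻¹ * u * g) (Helper30.mem_cj.mp hu) ?_ ?_ u hu hu1 hc
    · intro e
      apply hu1
      have : u = g * (g⁻¹ * u * g) * g⁻¹ := by group
      rw [this, e]; group
    · have h2 : g * a * g⁻¹ ∈ W := (mem_normalizer_iff.mp hgW a).mp ha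
      have h3 := hcW a ha ha1 u hc _ h2
      calc a * (g⁻¹ * u * g) = g⁻¹ * ((g * a * g⁻¹) * u) * g := by group
        _ = g⁻¹ * (u * (g * a * g⁻¹)) * g := by rw [h3]
        _ = g⁻¹ * u * g * a := by group
  have ha₁W : a₁ ∉ W := fun hw => hW₁ a₁ hw ha₁1 u₁ hu₁ hu₁1 hc₁
  have ha₂W : a₂ ∉ W := fun hw => hW₂ a₂ hw ha₂1 u₂ hu₂ hu₂1 hc₂
  -- (iv)
  have hlt : P ⊓ centralizer (A : Set G) < P :=
    lt_of_le_of_ne inf_le_left (fun e => hcon (e ▸ inf_le_right))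
  obtain ⟨x, hxP, hxN, hxC⟩ := Helper30.exists_mem_normalizer_not_mem hP.isPGroup hlt
  have hxA : x ∈ normalizer (A : Set G) := by
    apply Cfsg.Agent.Lib.Helper28.BG12.mem_normalizer_of_cj_le'
    rintro _ ⟨a, ha, rfl⟩
    change x * a * x⁻¹ ∈ A
    have h2 : a ∈ P ⊓ centralizer (A : Set G) :=
      mem_inf.mpr ⟨hAP ha, mem_centralizer_iff.mpr (fun b hb => hcomm b hb a ha)⟩
    have h3 := (mem_normalizer_iff.mp hxN a).mp h2
    refine (hom _ (mem_inf.mp h3).2).mp ?_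
    rw [conj_pow, h.ea.2 a ha]; group
  have hxCA : x ∉ centralizer (A : Set G) := fun hx => hxC (mem_inf.mpr ⟨hxP, hx⟩)
  have hPW : P ≤ centralizer (W : Set G) := le_centralizer_iff.mp inf_le_right
  have hδ : ∀ b ∈ A, x * b * x⁻¹ * b⁻¹ ∈ W := by
    refine comm_mem_of_card (T := P ⊓ normalizer (A : Set G)) (hP.isPGroup.to_le inf_le_left) hWA
      (le_inf hAP le_normalizer) (inf_le_left.trans (hPW.trans (centralizer_le_normalizer' W)))
      inf_le_right (by rw [h.card, hWc, sq]) x (mem_inf.mpr ⟨hxP, hxA⟩)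
  have hxW : ∀ w ∈ W, x * w = w * x := fun w hw => (mem_centralizer_iff.mp (hPW hxP) w hw).symm
  have hker : ∀ b ∈ A, x * b = b * x → b ∈ W := by
    intro b hb hxb
    rcases eq_or_eq_of_card (L := A ⊓ centralizer {x}) hWc h.card
      (le_inf hWA (fun w hw => mem_centralizer_singleton_iff.mpr (hxW w hw).symm)) inf_le_left with e | e
    · rw [← e]
      exact mem_inf.mpr ⟨hb, mem_centralizer_singleton_iff.mpr hxb.symm⟩
    · exfalso
      apply hxCA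
      rw [mem_centralizer_iff]
      intro a ha
      have h2 : a ∈ A ⊓ centralizer {x} := by rw [e]; exact ha
      exact mem_centralizer_singleton_iff.mp (mem_inf.mp h2).2
  obtain ⟨i, j, hij⟩ := exists_conj_zpow h.ea hWc hWA hδ hxW hker ha₁ ha₁W ha₂ ha₂W
  have hy : x ^ i ∈ normalizer (Q₁ : Set G) := hPQ₁ (P.zpow_mem hxP i)
  refine hi a₂ ha₂ ha₂1 (x ^ i * u₁ * (x ^ i)⁻¹) ((mem_normalizer_iff.mp hy u₁).mp hu₁) ?_ ?_
    u₂ hu₂ hu₂1 hc₂
  · intro e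
    apply hu₁1
    have : u₁ = (x ^ i)⁻¹ * (x ^ i * u₁ * (x ^ i)⁻¹) * x ^ i := by group
    rw [this, e]; group
  · have h3 : a₁ ^ j * u₁ = u₁ * a₁ ^ j := (show Commute a₁ u₁ from hc₁).zpow_left j
    rw [hij]
    calc x ^ i * a₁ ^ j * (x ^ i)⁻¹ * (x ^ i * u₁ * (x ^ i)⁻¹)
        = x ^ i * (a₁ ^ j * u₁) * (x ^ i)⁻¹ := by group
      _ = x ^ i * (u₁ * a₁ ^ j) * (x ^ i)⁻¹ := by rw [h3]
      _ = x ^ i * u₁ * (x ^ i)⁻¹ * (x ^ i * a₁ ^ j * (x ^ i)⁻¹) := by group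

end Cfsg.Agent.Lib.Helper26.BG11
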