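import Cfsg.Agent.Lib.Helper24.BG14F
import Cfsg.Agent.Lib.Helper28.Cores
import Cfsg.Agent.S1408
import Cfsg.Agent.S1414
import Cfsg.Agent.S1417
import Cfsg.Agent.S1418
import Cfsg.Agent.S1378

/-!
Rung BETA of helper24's ladder BG1436 (B-G 14.13): in the context `Ctx M N x`, every prime of
`σ(N)` dividing `|M|` lies in `β(N)`.
-/

set_option autoImplicit false

namespace Cfsg.Agent.Lib.Helper26.BG1436

open Subgroup Cfsg.Agent.Lib.Helper30 Cfsg.Agent.Lib.Helper2 Cfsg.Agent.Lib.Helper68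
  Cfsg.Agent.Lib.Helper28.BG12 Cfsg.Agent.Lib.Helper24.BG14

universe u

variable {G : Type u} [Group G]

/-- if `a` normalizes the nilpotent group `S`, `y ∈ S` has order dividing `p` and `[a, y]` lies in
a `p'`-group, then `a` and `y` commute. -/
theorem beta_comm_of_nilpotent [Finite G] {S O : Subgroup G} (hnil : Group.IsNilpotent S) {p : ℕ}
    {a y : G} (hy : y ∈ S) (hyp : y ^ p = 1) (haS : a ∈ normalizer (S : Set G))
    (hd : a * y * a⁻¹ * y⁻¹ ∈ O) (hO : (Nat.card O).Coprime p) : a * y = y * a := by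
  set d := a * y * a⁻¹ * y⁻¹ with hdd
  have hdS : d ∈ S := S.mul_mem ((mem_normalizer_iff.mp haS y).mp hy) (S.inv_mem hy)
  have hod : (orderOf d).Coprime p := by
    have h1 : orderOf d ∣ Nat.card O := by
      have := orderOf_dvd_natCard (⟨d, hd⟩ : O)
      rwa [Subgroup.orderOf_mk] at this
    exact Nat.Coprime.coprime_dvd_left h1 hO
  have hoy : orderOf y ∣ p := orderOf_dvd_of_pow_eq_one hyp
  have hcomm : Commute d y := by
    have h1 := Cfsg.Agent.Lib.Helper31.commute_of_coprime_orderOf S (⟨d, hdS⟩ : S) ⟨y, hy⟩ (by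
      rw [Subgroup.orderOf_mk, Subgroup.orderOf_mk]
      exact Nat.Coprime.coprime_dvd_right hoy hod)
    exact congrArg Subtype.val h1.eq
  have e1 : d * y = a * y * a⁻¹ := by rw [hdd]; group
  have e2 : (d * y) ^ p = 1 := by
    rw [e1, conj_pow, hyp]; group
  rw [hcomm.mul_pow, hyp, mul_one] at e2
  have h3 : orderOf d ∣ p := orderOf_dvd_of_pow_eq_one e2
  have h4 : orderOf d = 1 := Nat.eq_one_of_dvd_coprimes hod dvd_rfl h3
  have h5 : d = 1 := orderOf_eq_one_iff.mp h4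
  calc a * y = d * (y * a) := by rw [hdd]; group
    _ = y * a := by rw [h5, one_mul]

theorem beta_card_map_subtype {M : Subgroup G} (K : Subgroup M) :
    Nat.card (K.map M.subtype) = Nat.card K :=
  Nat.card_congr (K.equivMapOfInjective M.subtype M.subtype_injective).symm.toEquiv

theorem mem_beta [Finite G] (hG : Cfsg.IsMinSimpleOddOrder G) {M N : Subgroup G} {x : G}
    (hM : IsCoatom M) (hc : Ctx M N x) {p : ℕ} (hp : p ∈ Cfsg.sigma N) (hpM : p ∣ Nat.card M) :
    p ∈ Cfsg.beta N := by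
  by_contra hβ
  obtain ⟨q, A, hq, hqM, hqN, hAE, hAe, hAc⟩ := hc.ea
  have hN := hc.coatom
  have hqq : Fact q.Prime := ⟨hq⟩
  have hpp : Fact p.Prime := ⟨hp.1⟩
  have h78 : T1378 G := (Cfsg.Agent.S1378.result hG).2
  have hpσM : p ∉ Cfsg.sigma M := by
    intro h
    exact not_mem_sigma_of_nconj h78 hM hN hc.nconj h hp
  have hqp : q ≠ p := by
    rintro rfl
    exact hqN.2.1 hp
  have hAM : A ≤ M := hAE.trans inf_le_left
  have hAN : A ≤ N := hAE.trans inf_le_right
  -- (a) `q < p`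
  have hlt : q < p := by
    have h14 := ((Cfsg.Agent.S1414.result hG N hN).2.2.2.2 p hp.1 hp.2.1 hβ).2.2
    by_cases hqi : q ∣ (Cfsg.pPrimeCore p ↥N).index
    · exact lt_of_le_of_ne (h14 q hq hqi) hqp
    exfalso
    obtain ⟨hnil, -, -, -, -, A₁, hA₁, hA₁c, hA₁C⟩ :=
      Cfsg.Agent.S1417.result hG N hN q hqN A ⟨hAN, hAe, hAc⟩
    have hS := sigmaCore_hall hG hN
    have hpS : p ∣ Nat.card (Cfsg.sigmaCore N) := by
      have h1 : Nat.card (Cfsg.sigmaCore N) * (Cfsg.sigmaCore N).relIndex N = Nat.card N := by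
        have := relIndex_mul_relIndex ⊥ (Cfsg.sigmaCore N) N bot_le (sigmaCore_le N)
        rwa [relIndex_bot_left, relIndex_bot_left] at this
      have h2 := hp.2.1
      rw [← h1] at h2
      rcases (Nat.Prime.dvd_mul hp.1).mp h2 with h | h
      · exact h
      · exact absurd h (hS.2.2 p hp.1 hp)
    obtain ⟨y, hy⟩ := exists_prime_orderOf_dvd_card' (G := Cfsg.sigmaCore N) p hpS
    have hy1 : (y : G) ≠ 1 := by
      intro h
      have : y = 1 := Subtype.ext h
      rw [this, orderOf_one] at hy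
      exact hp.1.one_lt.ne hy
    have hyp : (y : G) ^ p = 1 := by
      have := pow_orderOf_eq_one y
      rw [hy] at this
      exact congrArg Subtype.val this
    set O : Subgroup G := (Cfsg.pPrimeCore p ↥N).map N.subtype with hO
    have hOc : (Nat.card O).Coprime p := by
      rw [hO, beta_card_map_subtype]
      exact Cfsg.Agent.Lib.Helper28.pPrimeCore_coprime p
    have hON : N ≤ normalizer (O : Set G) :=
      Cfsg.Agent.Lib.Helper28.le_normalizer_map_subtype (Cfsg.pPrimeCore_normal p ↥N)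
    have hmem : (y : G) ∈ Cfsg.sigmaCore N ⊓ centralizer (A₁ : Set G) := by
      refine mem_inf.mpr ⟨y.2, ?_⟩
      rw [mem_centralizer_iff]
      intro a ha
      have haN : a ∈ N := hAN (hA₁ ha)
      have haq : a ^ q = 1 := hAe.2 a (hA₁ ha)
      have haO : a ∈ O := by
        have hcop : (orderOf (⟨a, haN⟩ : N)).Coprime (Cfsg.pPrimeCore p ↥N).index := by
          rw [Subgroup.orderOf_mk]
          exact Nat.Coprime.coprime_dvd_left (orderOf_dvd_of_pow_eq_one haq)
            ((Nat.Prime.coprime_iff_not_dvd hq).mpr hqi)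
        exact ⟨⟨a, haN⟩, Cfsg.Agent.Lib.Helper40.BG12.mem_of_normal_of_coprime hcop, rfl⟩
      have hyN : (y : G) ∈ N := sigmaCore_le N y.2
      have hd : a * (y : G) * a⁻¹ * (y : G)⁻¹ ∈ O := by
        have : a * (y : G) * a⁻¹ * (y : G)⁻¹ = a * ((y : G) * a⁻¹ * (y : G)⁻¹) := by group
        rw [this]
        exact O.mul_mem haO ((mem_normalizer_iff.mp (hON hyN) a⁻¹).mp (O.inv_mem haO))
      exact beta_comm_of_nilpotent hnil y.2 hyp (le_normalizer_sigmaCore N haN) hd hOc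
    rw [hA₁C, mem_bot] at hmem
    exact hy1 hmem
  -- (b)
  have hqβ : q ∉ Cfsg.beta M := by
    intro h
    exact (Cfsg.Agent.S1408.result hG N hN q hqN.2.1 hqN.2.2.1 hqN.2.2.2).1 h.2
  have h14 := ((Cfsg.Agent.S1414.result hG M hM).2.2.2.2 q hq hqM.2.1 hqβ).2.2
  have hpi : ¬ p ∣ (Cfsg.pPrimeCore q ↥M).index := fun h => absurd (h14 p hp.1 h) (not_le.mpr hlt)
  set O : Subgroup G := (Cfsg.pPrimeCore q ↥M).map M.subtype with hO
  have hOcard : Nat.card O = Nat.card (Cfsg.pPrimeCore q ↥M) := beta_card_map_subtype _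
  have hpO : p ∣ Nat.card O := by
    rw [hOcard]
    have h1 := (Cfsg.pPrimeCore q ↥M).card_mul_index
    rw [← h1] at hpM
    rcases (Nat.Prime.dvd_mul hp.1).mp hpM with h | h
    · exact h
    · exact absurd h hpi
  have hOc : (Nat.card O).Coprime q := by
    rw [hOcard]
    exact Cfsg.Agent.Lib.Helper28.pPrimeCore_coprime q
  have hOM : M ≤ normalizer (O : Set G) :=
    Cfsg.Agent.Lib.Helper28.le_normalizer_map_subtype (Cfsg.pPrimeCore_normal q ↥M)
  have hOleM : O ≤ M := map_subtype_le _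
  have hAO : (Nat.card A).Coprime (Nat.card O) := by
    rw [hAc]
    exact (Nat.Coprime.pow_left 2 hOc.symm)
  have hOsolv : Group.IsSolvable O :=
    solvable_of_ne_top hG (fun h => hM.1 (top_le_iff.mp (h ▸ hOleM)))
  obtain ⟨P, hP, hAP⟩ := exists_invariant_isSylowIn (hAM.trans hOM) hAO (Or.inr hOsolv) p
  have hP1 : P ≠ ⊥ := by
    rintro rfl
    have h1 := hP.not_dvd
    rw [relIndex_bot_left] at h1
    exact h1 hpO
  have hAσ : A ≤ Cfsg.sigmaCore M := isPGroup_le_sigmaCore hG hM hqM hAM (ea_isPGroup hAe)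
  have hPσ : P ⊓ Cfsg.sigmaCore M = ⊥ := by
    rw [eq_bot_iff]
    intro z hz
    rw [mem_bot]
    obtain ⟨k, hk⟩ := (IsPGroup.iff_orderOf.mp hP.isPGroup) ⟨z, hz.1⟩
    rw [Subgroup.orderOf_mk] at hk
    have h2 : orderOf z ∣ Nat.card (Cfsg.sigmaCore M) := by
      have := orderOf_dvd_natCard (⟨z, hz.2⟩ : Cfsg.sigmaCore M)
      rwa [Subgroup.orderOf_mk] at this
    rcases Nat.eq_zero_or_pos k with rfl | hk0
    · rw [pow_zero] at hk
      exact orderOf_eq_one_iff.mp hk
    · exfalso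
      apply hpσM
      apply (sigmaCore_hall hG hM).2.1 p hp.1
      exact (dvd_pow_self p hk0.ne').trans (hk ▸ h2)
  have hPC : P ≤ centralizer (A : Set G) := by
    intro y hy
    rw [mem_centralizer_iff]
    intro a ha
    have hyM : y ∈ M := hOleM (hP.le hy)
    have h1 : y * a * y⁻¹ * a⁻¹ ∈ P := by
      have : y * a * y⁻¹ * a⁻¹ = y * (a * y⁻¹ * a⁻¹) := by group
      rw [this]
      exact P.mul_mem hy ((mem_normalizer_iff.mp (hAP ha) y⁻¹).mp (P.inv_mem hy))
    have h2 : y * a * y⁻¹ * a⁻¹ ∈ Cfsg.sigmaCore M :=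
      (Cfsg.sigmaCore M).mul_mem
        ((mem_normalizer_iff.mp (le_normalizer_sigmaCore M hyM) a).mp (hAσ ha))
        ((Cfsg.sigmaCore M).inv_mem (hAσ ha))
    have h3 : y * a * y⁻¹ * a⁻¹ ∈ P ⊓ Cfsg.sigmaCore M := ⟨h1, h2⟩
    rw [hPσ, mem_bot] at h3
    calc a * y = (y * a * y⁻¹ * a⁻¹)⁻¹ * (y * a) := by group
      _ = y * a := by rw [h3, inv_one, one_mul]
  have h18 := (Cfsg.Agent.S1418.result hG N hN (M ⊓ N) hc.compl q hqN A ⟨hAE, hAe, hAc⟩).2.1
  have hPE : P ≤ M ⊓ N := by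
    rw [← h18.2.1]
    exact hPC.trans h18.1
  have hpE : p ∣ Nat.card ↥(M ⊓ N) :=
    (dvd_card_of_isPGroup_ne_bot hP.isPGroup hP1).trans (card_dvd_of_le hPE)
  exact not_mem_sigma_of_dvd_compl hG hN hc.compl hp.1 hpE hp

end Cfsg.Agent.Lib.Helper26.BG1436
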