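import Mathlib
import Cfsg.Prelude.Def_Involutions
import Cfsg.Agent.Lib.Helper26.StronglyEmbedded

set_option autoImplicit false

namespace Cfsg.Agent.Lib.Helper26

variable {G : Type*} [Group G] [Finite G] (T : Sylow 2 G)

/-- An element of 2-power order normalizing a Sylow 2-subgroup lies in it. -/
lemma mem_sylow_of_mem_normalizer {t : G} (ht : orderOf t = 2)
    (hN : t ∈ Subgroup.normalizer ((T : Subgroup G) : Set G)) : t ∈ T := by
  have h1 : IsPGroup 2 (Subgroup.zpowers t) := by
    rw [IsPGroup.iff_card]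
    exact ⟨1, by rw [Nat.card_zpowers, ht, pow_one]⟩
  have h2 : IsPGroup 2 (Subgroup.zpowers t ⊔ (T : Subgroup G) : Subgroup G) :=
    IsPGroup.to_sup_of_normal_right' h1 T.isPGroup' (by
      rw [Subgroup.zpowers_le]; exact hN)
  have h3 := T.is_maximal' h2 le_sup_right
  have : t ∈ (Subgroup.zpowers t ⊔ (T : Subgroup G) : Subgroup G) :=
    (le_sup_left : Subgroup.zpowers t ≤ _) (Subgroup.mem_zpowers t)
  rw [h3] at this
  exact this

variable (hnc : ¬ IsCyclic (T : Subgroup G))
  (hC : ∀ t : G, orderOf t = 2 → IsMulCommutative (Subgroup.centralizer ({t} : Set G)) ∧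
    ∀ c ∈ Subgroup.centralizer ({t} : Set G), c ^ 2 = 1)

include hC in
lemma EC_isPGroup_centralizer {t : G} (ht : orderOf t = 2) :
    IsPGroup 2 (Subgroup.centralizer ({t} : Set G)) := by
  intro c
  refine ⟨1, ?_⟩
  have := (hC t ht).2 c c.2
  ext
  simpa using this

include hnc in
lemma EC_ne_bot : (T : Subgroup G) ≠ ⊥ := by
  intro h
  apply hnc
  rw [h]
  infer_instance

include hnc hC in
lemma EC_exists_centralizer_eq : ∃ z : G, orderOf z = 2 ∧ Subgroup.centralizer ({z} : Set G) = T := by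
  haveI : Nontrivial (T : Subgroup G) := (Subgroup.nontrivial_iff_ne_bot _).mpr (EC_ne_bot T hnc)
  haveI : Nontrivial (Subgroup.center (T : Subgroup G)) := T.isPGroup'.center_nontrivial
  have hp : IsPGroup 2 (Subgroup.center (T : Subgroup G)) := T.isPGroup'.to_subgroup _
  obtain ⟨n, hn⟩ := IsPGroup.iff_card.mp hp
  have hn0 : n ≠ 0 := by
    rintro rfl
    have : 1 < Nat.card (Subgroup.center (T : Subgroup G)) := Finite.one_lt_card
    omega
  obtain ⟨z, hz⟩ := exists_prime_orderOf_dvd_card' (G := Subgroup.center (T : Subgroup G)) 2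
    (by rw [hn]; exact dvd_pow_self 2 hn0)
  have hz2 : orderOf ((z : (T : Subgroup G)) : G) = 2 := by
    rw [Subgroup.orderOf_coe, Subgroup.orderOf_coe, hz]
  refine ⟨_, hz2, ?_⟩
  apply T.is_maximal' (EC_isPGroup_centralizer hC hz2)
  intro a ha
  rw [Subgroup.mem_centralizer_singleton_iff]
  have := Subgroup.mem_center_iff.mp z.2 ⟨a, ha⟩
  exact congrArg Subtype.val this

include hnc hC in
lemma EC_sq_eq_one {a : G} (ha : a ∈ T) : a ^ 2 = 1 := by
  obtain ⟨z, hz, hzT⟩ := EC_exists_centralizer_eq T hnc hC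
  exact (hC z hz).2 a (by rw [hzT]; exact ha)

include hnc hC in
lemma EC_comm {a b : G} (ha : a ∈ T) (hb : b ∈ T) : a * b = b * a := by
  obtain ⟨z, hz, hzT⟩ := EC_exists_centralizer_eq T hnc hC
  have h := (hC z hz).1
  have := h.is_comm.comm ⟨a, by rw [hzT]; exact ha⟩ ⟨b, by rw [hzT]; exact hb⟩
  exact congrArg Subtype.val this

include hnc hC in
lemma EC_centralizer_eq {t : G} (ht : orderOf t = 2) (htT : t ∈ T) :
    Subgroup.centralizer ({t} : Set G) = T := by
  apply T.is_maximal' (EC_isPGroup_centralizer hC ht)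
  intro a ha
  rw [Subgroup.mem_centralizer_singleton_iff]
  exact EC_comm T hnc hC ha htT

include hnc hC in
lemma EC_mem_of_commute {t c : G} (ht : orderOf t = 2) (htT : t ∈ T) (hc : c * t = t * c) :
    c ∈ T := by
  rw [← SetLike.mem_coe, ← Sylow.coe_coe, ← EC_centralizer_eq T hnc hC ht htT]
  exact Subgroup.mem_centralizer_singleton_iff.mpr hc

include hnc hC in
lemma EC_mem_normalizer_of_conj {g n : G} (hn : orderOf n = 2) (hnT : n ∈ T)
    (hg : g * n * g⁻¹ ∈ T) : g ∈ Subgroup.normalizer ((T : Subgroup G) : Set G) := by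
  rw [Subgroup.mem_normalizer_iff]
  intro h
  constructor
  · intro hh
    apply EC_mem_of_commute T hnc hC (t := g * n * g⁻¹) (by rw [orderOf_conj_eq, hn]) hg
    have := EC_comm T hnc hC hh hnT
    calc g * h * g⁻¹ * (g * n * g⁻¹) = g * (h * n) * g⁻¹ := by simp [mul_assoc]
      _ = g * (n * h) * g⁻¹ := by rw [this]
      _ = g * n * g⁻¹ * (g * h * g⁻¹) := by simp [mul_assoc]
  · intro hh
    apply EC_mem_of_commute T hnc hC hn hnT
    have := EC_comm T hnc hC hh hg
    have h2 : g⁻¹ * (g * h * g⁻¹ * (g * n * g⁻¹)) * g = g⁻¹ * (g * n * g⁻¹ * (g * h * g⁻¹)) * g := by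
      rw [this]
    simpa [mul_assoc] using h2

include hnc hC in
theorem EC_stronglyEmbedded (hnn : ¬ (T : Subgroup G).Normal) :
    Cfsg.IsStronglyEmbedded (Subgroup.normalizer ((T : Subgroup G) : Set G)) := by
  refine ⟨fun h => hnn (Subgroup.normalizer_eq_top_iff.mp h), ?_, ?_⟩
  · obtain ⟨z, hz, hzT⟩ := EC_exists_centralizer_eq T hnc hC
    have hzT' : z ∈ T := by
      rw [← SetLike.mem_coe, ← Sylow.coe_coe, ← hzT]
      exact Subgroup.mem_centralizer_singleton_iff.mpr rfl
    have hzN : z ∈ Subgroup.normalizer ((T : Subgroup G) : Set G) := Subgroup.le_normalizer hzT'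
    have := orderOf_dvd_natCard (⟨z, hzN⟩ : Subgroup.normalizer ((T : Subgroup G) : Set G))
    rw [Subgroup.orderOf_mk, hz] at this
    exact even_iff_two_dvd.mpr this
  · intro g hg
    by_contra hodd
    rw [Nat.not_odd_iff_even] at hodd
    obtain ⟨t, ht⟩ := exists_prime_orderOf_dvd_card' 2 (even_iff_two_dvd.mp hodd)
    have ht2 : orderOf (t : G) = 2 := by rw [Subgroup.orderOf_coe, ht]
    obtain ⟨h1, n, hnN, hn⟩ := Subgroup.mem_inf.mp t.2
    simp only [MulEquiv.coe_toMonoidHom, MulAut.conj_apply] at hn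
    have hn2 : orderOf n = 2 := by rw [← orderOf_conj_eq g n, hn, ht2]
    have hnT := mem_sylow_of_mem_normalizer T hn2 hnN
    have htT := mem_sylow_of_mem_normalizer T ht2 h1
    exact hg (EC_mem_normalizer_of_conj T hnc hC hn2 hnT (by rw [hn]; exact htT))

end Cfsg.Agent.Lib.Helper26
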