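import Mathlib
import Cfsg.Prelude.Def_Involutions
import Cfsg.Agent.Lib.Helper26.ElemCent
import Cfsg.Agent.S1225

set_option autoImplicit false

namespace Cfsg.Agent.Lib.Helper26

variable {G : Type*} [Group G] [Finite G] (T : Sylow 2 G)

/-- The normalizer of `T`. -/
abbrev ECN : Subgroup G := Subgroup.normalizer ((T : Subgroup G) : Set G)

/-- The two point stabilizer `H ∩ uHu⁻¹`. -/
abbrev ECD (u : G) : Subgroup G := ECN T ⊓ (ECN T).map (MulAut.conj u).toMonoidHom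

variable (hnc : ¬ IsCyclic (T : Subgroup G)) (hnn : ¬ (T : Subgroup G).Normal)
  (hC : ∀ t : G, orderOf t = 2 → IsMulCommutative (Subgroup.centralizer ({t} : Set G)) ∧
    ∀ c ∈ Subgroup.centralizer ({t} : Set G), c ^ 2 = 1)
  (u : G) (hu : orderOf u = 2) (huH : u ∉ ECN T)

include hnc hnn hC huH in
lemma ECD_odd : Odd (Nat.card (ECD T u)) := (EC_stronglyEmbedded T hnc hC hnn).2.2 u huH

include hu in
lemma ECD_conj_mem {d : G} (hd : d ∈ ECD T u) : u * d * u⁻¹ ∈ ECD T u := by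
  obtain ⟨h1, n, hn, hnd⟩ := Subgroup.mem_inf.mp hd
  simp only [MulEquiv.coe_toMonoidHom, MulAut.conj_apply] at hnd
  refine Subgroup.mem_inf.mpr ⟨?_, ⟨d, h1, by simp⟩⟩
  rw [← hnd, invol_inv hu]
  have huu := invol_mul_self hu
  have : u * (u * n * u) * u = (u * u) * n * (u * u) := by simp [mul_assoc]
  rw [this, huu, one_mul, mul_one]
  exact hn

include hnc hnn hC huH in
lemma ECD_eq_one_of_sq {d : G} (hd : d ∈ ECD T u) (h : d ^ 2 = 1) : d = 1 := by
  have h1 : orderOf d ∣ 2 := orderOf_dvd_of_pow_eq_one h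
  have h2 : orderOf d ∣ Nat.card (ECD T u) := by
    have := orderOf_dvd_natCard (⟨d, hd⟩ : ECD T u)
    rwa [Subgroup.orderOf_mk] at this
  have h3 : Nat.Coprime 2 (Nat.card (ECD T u)) :=
    (Nat.coprime_two_left).mpr (ECD_odd T hnc hnn hC u huH)
  have := Nat.eq_one_of_dvd_coprimes h3 h1 h2
  exact orderOf_eq_one_iff.mp this

include hnc hnn hC huH in
lemma ECD_inter_T {d : G} (hd : d ∈ ECD T u) (hdT : d ∈ T) : d = 1 :=
  ECD_eq_one_of_sq T hnc hnn hC u huH hd (EC_sq_eq_one T hnc hC hdT)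

include hnc hnn hC hu huH in
lemma ECD_eq_one_of_commute {d : G} (hd : d ∈ ECD T u) (h : d * u = u * d) : d = 1 :=
  ECD_eq_one_of_sq T hnc hnn hC u huH hd
    ((hC u hu).2 d (Subgroup.mem_centralizer_singleton_iff.mpr h))

include hnc hnn hC hu huH in
lemma ECD_inverted {d : G} (hd : d ∈ ECD T u) : u * d * u⁻¹ = d⁻¹ := by
  let φ : ECD T u → ECD T u := fun e =>
    ⟨(e : G)⁻¹ * (u * e * u⁻¹), Subgroup.mul_mem _ (Subgroup.inv_mem _ e.2) (ECD_conj_mem T u hu e.2)⟩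
  have hinj : Function.Injective φ := by
    intro e f hef
    have h1 : (e : G)⁻¹ * (u * e * u⁻¹) = (f : G)⁻¹ * (u * f * u⁻¹) := congrArg Subtype.val hef
    have h2 : ((f : G) * (e : G)⁻¹) * u = u * ((f : G) * (e : G)⁻¹) := by
      have h3 : (f : G) * ((e : G)⁻¹ * (u * e * u⁻¹)) * (u * (e : G)⁻¹) =
          (f : G) * ((f : G)⁻¹ * (u * f * u⁻¹)) * (u * (e : G)⁻¹) := by rw [h1]
      simpa [mul_assoc] using h3
    have h4 := ECD_eq_one_of_commute T hnc hnn hC u hu huH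
      (Subgroup.mul_mem _ f.2 (Subgroup.inv_mem _ e.2)) h2
    ext
    exact (mul_inv_eq_one.mp h4).symm
  obtain ⟨e, he⟩ := (Finite.injective_iff_surjective.mp hinj) ⟨d, hd⟩
  have he' : (e : G)⁻¹ * (u * e * u⁻¹) = d := congrArg Subtype.val he
  rw [← he', invol_inv hu]
  have huu := invol_mul_self hu
  have h5 : u * ((e : G)⁻¹ * (u * e * u)) * u = u * (e : G)⁻¹ * (u * e * (u * u)) := by
    simp [mul_assoc]
  rw [h5, huu, mul_one]
  simp [mul_assoc, invol_inv hu]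

include hnc hC in
lemma EC_orderOf_eq_two {t : G} (htT : t ∈ T) (ht1 : t ≠ 1) : orderOf t = 2 :=
  orderOf_eq_two_of (by rw [← sq]; exact EC_sq_eq_one T hnc hC htT) ht1

include hnc hnn hC hu huH in
lemma ECD_trans {s t : G} (hsT : s ∈ T) (hs1 : s ≠ 1) (htT : t ∈ T) (ht1 : t ≠ 1) :
    ∃ d ∈ ECD T u, d * s * d⁻¹ = t :=
  (Cfsg.Agent.S1225.result (ECN T) (EC_stronglyEmbedded T hnc hC hnn) u hu huH s t
    (EC_orderOf_eq_two T hnc hC hsT hs1) (Subgroup.le_normalizer hsT)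
    (EC_orderOf_eq_two T hnc hC htT ht1) (Subgroup.le_normalizer htT)).1

include hnc hnn hC huH in
lemma ECD_free {d t : G} (hd : d ∈ ECD T u) (htT : t ∈ T) (ht1 : t ≠ 1) (h : d * t * d⁻¹ = t) :
    d = 1 := by
  apply ECD_inter_T T hnc hnn hC u huH hd
  apply EC_mem_of_commute T hnc hC (EC_orderOf_eq_two T hnc hC htT ht1) htT
  exact mul_inv_eq_iff_eq_mul.mp h

include hnc in
lemma EC_exists_ne_one : ∃ t ∈ T, t ≠ 1 := by
  by_contra hcon
  push Not at hcon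
  exact EC_ne_bot T hnc ((Subgroup.eq_bot_iff_forall _).mpr hcon)

lemma ECN_conj_mem {n t : G} (hn : n ∈ ECN T) (ht : t ∈ T) : n * t * n⁻¹ ∈ T :=
  (Subgroup.mem_normalizer_iff.mp hn t).mp ht

include hnc hnn hC hu huH in
lemma ECD_card : Nat.card (ECD T u) = Nat.card T - 1 := by
  obtain ⟨t₀, ht₀T, ht₀⟩ := EC_exists_ne_one T hnc
  have h1 : Nat.card (ECD T u) = Nat.card {t : T // t ≠ 1} := by
    apply Nat.card_congr
    refine Equiv.ofBijective (fun d => ⟨⟨d * t₀ * (d : G)⁻¹, ECN_conj_mem T (Subgroup.mem_inf.mp d.2).1 ht₀T⟩, ?_⟩) ⟨?_, ?_⟩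
    · intro h
      have h2 : (d : G) * t₀ * (d : G)⁻¹ = 1 := congrArg Subtype.val h
      apply ht₀
      have h3 : (d : G)⁻¹ * ((d : G) * t₀ * (d : G)⁻¹) * d = (d : G)⁻¹ * 1 * d := by rw [h2]
      simpa [mul_assoc] using h3
    · intro d e hde
      have h2 : (d : G) * t₀ * (d : G)⁻¹ = (e : G) * t₀ * (e : G)⁻¹ := by
        have := congrArg (fun x : {t : T // t ≠ 1} => ((x : T) : G)) hde
        exact this
      have h3 : ((e : G)⁻¹ * d) * t₀ * ((e : G)⁻¹ * d)⁻¹ = t₀ := by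
        have h4 : (e : G)⁻¹ * ((d : G) * t₀ * (d : G)⁻¹) * e = (e : G)⁻¹ * ((e : G) * t₀ * (e : G)⁻¹) * e := by
          rw [h2]
        simpa [mul_assoc] using h4
      have h5 := ECD_free T hnc hnn hC u huH (Subgroup.mul_mem _ (Subgroup.inv_mem _ e.2) d.2) ht₀T ht₀ h3
      ext
      exact (inv_mul_eq_one.mp h5).symm
    · rintro ⟨⟨t, htT⟩, ht1⟩
      obtain ⟨d, hd, hdt⟩ := ECD_trans T hnc hnn hC u hu huH ht₀T ht₀ htT
        (fun h => ht1 (by ext; exact h))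
      exact ⟨⟨d, hd⟩, by ext; exact hdt⟩
  rw [h1]
  have := Fintype.ofFinite T
  classical
  rw [Nat.card_eq_fintype_card, Nat.card_eq_fintype_card, Fintype.card_subtype_compl, Fintype.card_subtype_eq]
  rfl

include hnc hnn hC hu huH in
lemma EC_isComplement' : Subgroup.IsComplement' ((ECD T u).subgroupOf (ECN T))
    ((T : Subgroup G).subgroupOf (ECN T)) := by
  apply Subgroup.isComplement'_of_disjoint_and_mul_eq_univ
  · rw [Subgroup.disjoint_def]
    intro x hx hxT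
    ext
    exact ECD_inter_T T hnc hnn hC u huH (Subgroup.mem_subgroupOf.mp hx) (Subgroup.mem_subgroupOf.mp hxT)
  · rw [Set.eq_univ_iff_forall]
    intro n
    obtain ⟨t₀, ht₀T, ht₀⟩ := EC_exists_ne_one T hnc
    have h1 : (n : G) * t₀ * (n : G)⁻¹ ∈ T := ECN_conj_mem T n.2 ht₀T
    have h2 : (n : G) * t₀ * (n : G)⁻¹ ≠ 1 := by
      intro h
      apply ht₀
      have h3 : (n : G)⁻¹ * ((n : G) * t₀ * (n : G)⁻¹) * n = (n : G)⁻¹ * 1 * n := by rw [h]
      simpa [mul_assoc] using h3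
    obtain ⟨d, hd, hdt⟩ := ECD_trans T hnc hnn hC u hu huH ht₀T ht₀ h1 h2
    have hdN : d ∈ ECN T := (Subgroup.mem_inf.mp hd).1
    have h3 : d⁻¹ * n ∈ T := by
      apply EC_mem_of_commute T hnc hC (EC_orderOf_eq_two T hnc hC ht₀T ht₀) ht₀T
      have h4 : d⁻¹ * (d * t₀ * d⁻¹) * n = d⁻¹ * ((n : G) * t₀ * (n : G)⁻¹) * n := by rw [hdt]
      simp only [mul_assoc, inv_mul_cancel_left, inv_mul_cancel, mul_one] at h4
      rw [mul_assoc, ← h4]
    refine Set.mem_mul.mpr ⟨⟨d, hdN⟩, Subgroup.mem_subgroupOf.mpr hd, ⟨d⁻¹ * n, Subgroup.le_normalizer h3⟩,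
      Subgroup.mem_subgroupOf.mpr h3, ?_⟩
    ext
    simp

include hnc hnn hC hu huH in
lemma ECN_card : Nat.card (ECN T) = Nat.card T * (Nat.card T - 1) := by
  have h := (EC_isComplement' T hnc hnn hC u hu huH).card_mul_card
  have h1 : Nat.card ((ECD T u).subgroupOf (ECN T)) = Nat.card (ECD T u) :=
    Nat.card_congr (Subgroup.subgroupOfEquivOfLe inf_le_left).toEquiv
  have h2 : Nat.card ((T : Subgroup G).subgroupOf (ECN T)) = Nat.card T :=
    Nat.card_congr (Subgroup.subgroupOfEquivOfLe Subgroup.le_normalizer).toEquiv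
  rw [h1, h2, ECD_card T hnc hnn hC u hu huH] at h
  rw [← h, mul_comm]

end Cfsg.Agent.Lib.Helper26
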