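import Mathlib
import Cfsg.Prelude.Def_Involutions
import Cfsg.Agent.Lib.Helper26.StronglyEmbedded

set_option autoImplicit false

namespace Cfsg.Agent.Lib.Helper26

variable {G : Type*} [Group G] {H : Subgroup G}

lemma smul_mk_eq_mk_iff (t g k : G) :
    t • (QuotientGroup.mk g : G ⧸ H) = QuotientGroup.mk k ↔ k⁻¹ * t * g ∈ H := by
  rw [MulAction.Quotient.smul_mk, eq_comm, QuotientGroup.eq, smul_eq_mul, mul_assoc]

variable [Finite G]

lemma SE_fix_unique (hH : Cfsg.IsStronglyEmbedded H) {t : G} (ht : orderOf t = 2) {x y : G ⧸ H}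
    (hx : t • x = x) (hy : t • y = y) : x = y := by
  induction x using QuotientGroup.induction_on with
  | H a =>
  induction y using QuotientGroup.induction_on with
  | H b =>
  rw [smul_mk_eq_mk_iff] at hx hy
  rw [eq_comm, QuotientGroup.eq]
  have hs : orderOf (a⁻¹ * t * a) = 2 := by
    have := orderOf_conj_eq a⁻¹ t
    rw [inv_inv] at this
    rw [this, ht]
  apply SE_mem_of_conj_mem hH hs hx
  have : b⁻¹ * a * (a⁻¹ * t * a) * (b⁻¹ * a)⁻¹ = b⁻¹ * t * b := by simp [mul_assoc]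
  rw [this]
  exact hy

lemma SE_fix_exists (hH : Cfsg.IsStronglyEmbedded H) {t : G} (ht : orderOf t = 2) :
    ∃ x : G ⧸ H, t • x = x := by
  obtain ⟨s, hsH, hs⟩ := SE_exists_invol_mem hH
  obtain ⟨g, hg⟩ := isConj_iff.mp (SE_isConj hH hs ht)
  refine ⟨QuotientGroup.mk g, ?_⟩
  rw [smul_mk_eq_mk_iff, ← hg]
  simpa [mul_assoc] using hsH

lemma SE_exists_conj' (hH : Cfsg.IsStronglyEmbedded H) {s t : G} (hs : orderOf s = 2)
    (ht : orderOf t = 2) {x y : G ⧸ H} (hsx : s • x = x) (hty : t • y = y) (hxy : x ≠ y) :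
    ∃ v : G, v * v = 1 ∧ v * s * v⁻¹ = t := by
  rcases Nat.even_or_odd (orderOf (s * t)) with hev | hodd
  · exfalso
    obtain ⟨k, hk⟩ := hev
    have hpos : 0 < orderOf (s * t) := orderOf_pos _
    obtain ⟨hz, hzs, hzt⟩ := dihedral_central s t (invol_mul_self hs) (invol_mul_self ht) k
      (by omega) (by omega)
    have h1 : (s * t) ^ k • x = x := by
      apply SE_fix_unique hH hs _ hsx
      rw [← mul_smul, ← hzs.eq, mul_smul, hsx]
    have h2 : (s * t) ^ k • y = y := by
      apply SE_fix_unique hH ht _ hty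
      rw [← mul_smul, ← hzt.eq, mul_smul, hty]
    exact hxy (SE_fix_unique hH hz h1 h2)
  · obtain ⟨k, hk⟩ := hodd
    exact ⟨_, dihedral_conj s t (invol_mul_self hs) (invol_mul_self ht) k
      (by rw [← hk, pow_orderOf_eq_one])⟩

lemma SE_card_fix (x : G ⧸ H) :
    Nat.card {t : G // orderOf t = 2 ∧ t • x = x} = Nat.card {t : G // orderOf t = 2 ∧ t ∈ H} := by
  induction x using QuotientGroup.induction_on with
  | H a =>
  refine Nat.card_congr ⟨fun t => ⟨a⁻¹ * t.1 * a, ?_, ?_⟩, fun t => ⟨a * t.1 * a⁻¹, ?_, ?_⟩, ?_, ?_⟩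
  · have := orderOf_conj_eq a⁻¹ t.1
    rw [inv_inv] at this
    rw [this, t.2.1]
  · exact (smul_mk_eq_mk_iff _ _ _).mp t.2.2
  · rw [orderOf_conj_eq, t.2.1]
  · rw [smul_mk_eq_mk_iff]
    simpa [mul_assoc] using t.2.2
  · intro t
    ext
    simp [mul_assoc]
  · intro t
    ext
    simp [mul_assoc]

lemma SE_card_le_swap (hH : Cfsg.IsStronglyEmbedded H) {x y : G ⧸ H} (hxy : x ≠ y) :
    Nat.card {t : G // orderOf t = 2 ∧ t • y = y} ≤ Nat.card {i : G // orderOf i = 2 ∧ i • x = y} := by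
  obtain ⟨s, hs, hsx⟩ : ∃ s : G, orderOf s = 2 ∧ s • x = x := by
    induction x using QuotientGroup.induction_on with
    | H a =>
    obtain ⟨s, hsH, hs⟩ := SE_exists_invol_mem hH
    refine ⟨a * s * a⁻¹, by rw [orderOf_conj_eq, hs], ?_⟩
    rw [smul_mk_eq_mk_iff]
    simpa [mul_assoc] using hsH
  have hex : ∀ t : {t : G // orderOf t = 2 ∧ t • y = y}, ∃ v : G, v * v = 1 ∧ v * s * v⁻¹ = t.1 :=
    fun t => SE_exists_conj' hH hs t.2.1 hsx t.2.2 hxy
  choose v hvv hv using hex
  have hvx : ∀ t, v t • x = y := by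
    intro t
    apply SE_fix_unique hH t.2.1 _ t.2.2
    rw [← hv t, mul_smul, mul_smul, inv_smul_smul, hsx]
  refine Nat.card_le_card_of_injective (fun t => ⟨v t, ?_, hvx t⟩) ?_
  · apply orderOf_eq_two_of (hvv t)
    intro h1
    have := hvx t
    rw [h1, one_smul] at this
    exact hxy this
  · intro t t' htt
    have : v t = v t' := congrArg Subtype.val htt
    ext
    rw [← hv t, ← hv t', this]

open Classical in
theorem SE_card_swap (hH : Cfsg.IsStronglyEmbedded H) (x y : G ⧸ H) (hxy : x ≠ y) :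
    Nat.card {i : G // orderOf i = 2 ∧ i • x = y} = Nat.card {t : G // orderOf t = 2 ∧ t ∈ H} := by
  have := Fintype.ofFinite G
  have : Fintype (G ⧸ H) := Fintype.ofFinite _
  set Inv : Finset G := Finset.univ.filter (fun t => orderOf t = 2) with hInv
  set B : G ⧸ H → G ⧸ H → Finset G := fun a b => Inv.filter (fun t => t • a = b) with hB
  set i := Nat.card {t : G // orderOf t = 2 ∧ t ∈ H} with hi
  have hBcard : ∀ a b, Nat.card {i : G // orderOf i = 2 ∧ i • a = b} = (B a b).card := by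
    intro a b
    rw [Nat.card_eq_fintype_card, Fintype.card_subtype]
    congr 1
    ext t
    simp [hB, hInv]
  have h1 : ∀ a, (B a a).card = i := fun a => by rw [← hBcard, SE_card_fix]
  have h2 : ∀ a b, a ≠ b → i ≤ (B a b).card := by
    intro a b hab
    rw [← hBcard, hi, ← SE_card_fix b]
    exact SE_card_le_swap hH hab
  have h3 : ∑ b, (B x b).card = Inv.card :=
    (Finset.card_eq_sum_card_fiberwise (f := fun t => t • x) (s := Inv) (t := Finset.univ)
      (fun _ _ => Finset.mem_coe.mpr (Finset.mem_univ _))).symm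
  have hfix : ∀ t : G, ∃ b : G ⧸ H, orderOf t = 2 → t • b = b := by
    intro t
    by_cases ht : orderOf t = 2
    · obtain ⟨b, hb⟩ := SE_fix_exists hH ht
      exact ⟨b, fun _ => hb⟩
    · exact ⟨x, fun h => absurd h ht⟩
  choose fx hfx using hfix
  have h4 : ∑ b, (B b b).card = Inv.card := by
    rw [Finset.card_eq_sum_card_fiberwise (f := fx) (s := Inv) (t := Finset.univ)
      (fun _ _ => Finset.mem_coe.mpr (Finset.mem_univ _))]
    apply Finset.sum_congr rfl
    intro b _
    congr 1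
    ext t
    simp only [hB, hInv, Finset.mem_filter, Finset.mem_univ, true_and]
    constructor
    · rintro ⟨ht, htb⟩
      exact ⟨ht, SE_fix_unique hH ht (hfx t ht) htb⟩
    · rintro ⟨ht, htb⟩
      exact ⟨ht, htb ▸ hfx t ht⟩
  have h5 : ∀ b ∈ (Finset.univ : Finset (G ⧸ H)), (B b b).card ≤ (B x b).card := by
    intro b _
    by_cases hb : x = b
    · rw [hb]
    · rw [h1]; exact h2 x b hb
  have h6 := (Finset.sum_eq_sum_iff_of_le h5).mp (by rw [h3, h4]) y (Finset.mem_univ y)
  rw [hBcard, ← h6, h1]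

end Cfsg.Agent.Lib.Helper26
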