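import Mathlib
import Cfsg.Prelude.Def_Involutions
import Cfsg.Agent.Lib.Helper26.ElemCent2
import Cfsg.Agent.Lib.Helper26.StronglyEmbedded2

set_option autoImplicit false

namespace Cfsg.Agent.Lib.Helper26

variable {G : Type*} [Group G] [Finite G]

lemma SE_exists_swap {H : Subgroup G} (hH : Cfsg.IsStronglyEmbedded H) {x y : G ⧸ H} (hxy : x ≠ y) :
    ∃ v : G, orderOf v = 2 ∧ v • x = y := by
  have h1 := SE_card_swap hH x y hxy
  obtain ⟨t, htH, ht⟩ := SE_exists_invol_mem hH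
  have : Nonempty {t : G // orderOf t = 2 ∧ t ∈ H} := ⟨⟨t, ht, htH⟩⟩
  have h2 : 0 < Nat.card {t : G // orderOf t = 2 ∧ t ∈ H} := Nat.card_pos
  rw [← h1] at h2
  obtain ⟨v⟩ := (Nat.card_pos_iff.mp h2).1
  exact ⟨v.1, v.2.1, v.2.2⟩

variable (T : Sylow 2 G)

variable (hnc : ¬ IsCyclic (T : Subgroup G)) (hnn : ¬ (T : Subgroup G).Normal)
  (hC : ∀ t : G, orderOf t = 2 → IsMulCommutative (Subgroup.centralizer ({t} : Set G)) ∧
    ∀ c ∈ Subgroup.centralizer ({t} : Set G), c ^ 2 = 1)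
  (u : G) (hu : orderOf u = 2) (huH : u ∉ ECN T)

include hnc in
lemma EC_four_le_card : 4 ≤ Nat.card T := by
  obtain ⟨k, hk⟩ := IsPGroup.iff_card.mp T.isPGroup'
  have hk' : Nat.card T = 2 ^ k := hk
  rcases k with _ | _ | k
  · exfalso
    apply hnc
    have : Subsingleton (T : Subgroup G) := (Nat.card_eq_one_iff_unique.mp (by simpa using hk)).1
    infer_instance
  · exfalso
    apply hnc
    exact isCyclic_of_prime_card (p := 2) (by simpa using hk)
  · rw [hk', pow_add, pow_add]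
    have : 1 ≤ 2 ^ k := Nat.one_le_two_pow
    omega

include hnc hnn hC hu huH in
lemma ECD_exists_ne_one : ∃ e ∈ ECD T u, e ≠ 1 := by
  have h1 := ECD_card T hnc hnn hC u hu huH
  have h2 := EC_four_le_card T hnc
  by_contra hcon
  push Not at hcon
  have h3 : ECD T u = ⊥ := (Subgroup.eq_bot_iff_forall _).mpr hcon
  rw [h3, Subgroup.card_bot] at h1
  omega

include hnc hnn hC hu huH in
lemma ECD_comm {d e : G} (hd : d ∈ ECD T u) (he : e ∈ ECD T u) : d * e = e * d := by
  have h1 := ECD_inverted T hnc hnn hC u hu huH hd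
  have h2 := ECD_inverted T hnc hnn hC u hu huH he
  have h3 := ECD_inverted T hnc hnn hC u hu huH (Subgroup.mul_mem _ hd he)
  have h4 : u * (d * e) * u⁻¹ = (u * d * u⁻¹) * (u * e * u⁻¹) := by simp [mul_assoc]
  rw [h4, h1, h2, mul_inv_rev] at h3
  have h5 := congrArg (fun x => x⁻¹) h3
  simp only [mul_inv_rev, inv_inv] at h5
  exact h5.symm

lemma mem_ECD_iff {u d : G} : d ∈ ECD T u ↔
    d • (QuotientGroup.mk 1 : G ⧸ ECN T) = QuotientGroup.mk 1 ∧
    d • (QuotientGroup.mk u : G ⧸ ECN T) = QuotientGroup.mk u := by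
  rw [smul_mk_eq_mk_iff, smul_mk_eq_mk_iff, Subgroup.mem_inf]
  simp only [inv_one, one_mul, mul_one]
  apply and_congr Iff.rfl
  constructor
  · rintro ⟨n, hn, rfl⟩
    simpa [mul_assoc] using hn
  · intro h
    exact ⟨_, h, by simp [mul_assoc]⟩

include hnc hnn hC hu huH in
lemma ECD_eq_of_fix {v : G} (hv : orderOf v = 2) (hvH : v ∉ ECN T)
    (hfix : ∀ d ∈ ECD T u, d • (QuotientGroup.mk v : G ⧸ ECN T) = QuotientGroup.mk v) :
    ECD T v = ECD T u := by
  symm
  apply Subgroup.eq_of_le_of_card_ge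
  · intro d hd
    exact (mem_ECD_iff T).mpr ⟨((mem_ECD_iff T).mp hd).1, hfix d hd⟩
  · rw [ECD_card T hnc hnn hC u hu huH, ECD_card T hnc hnn hC v hv hvH]

include hnc hnn hC hu huH in
lemma ECN_exists_mul {n : G} (hn : n ∈ ECN T) : ∃ d ∈ ECD T u, ∃ t ∈ T, n = d * t := by
  have h := (EC_isComplement' T hnc hnn hC u hu huH).mul_eq
  have h1 : (⟨n, hn⟩ : ECN T) ∈ (Set.univ : Set (ECN T)) := Set.mem_univ _
  rw [← h] at h1
  obtain ⟨d, hd, t, ht, hdt⟩ := Set.mem_mul.mp h1
  exact ⟨d, Subgroup.mem_subgroupOf.mp hd, t, Subgroup.mem_subgroupOf.mp ht,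
    (congrArg Subtype.val hdt).symm⟩

include hnc hnn hC hu huH in
lemma ECN_normalizer_D {n : G} (hn : n ∈ ECN T)
    (hnD : n ∈ Subgroup.normalizer ((ECD T u : Subgroup G) : Set G)) : n ∈ ECD T u := by
  obtain ⟨d, hd, t, ht, rfl⟩ := ECN_exists_mul T hnc hnn hC u hu huH hn
  have htD : t ∈ Subgroup.normalizer ((ECD T u : Subgroup G) : Set G) := by
    have := Subgroup.mul_mem _ (Subgroup.inv_mem _ (Subgroup.le_normalizer hd)) hnD
    simpa using this
  obtain ⟨e, he, he1⟩ := ECD_exists_ne_one T hnc hnn hC u hu huH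
  have h1 : t * e * t⁻¹ * e⁻¹ ∈ ECD T u :=
    Subgroup.mul_mem _ ((Subgroup.mem_normalizer_iff.mp htD e).mp he) (Subgroup.inv_mem _ he)
  have h2 : t * e * t⁻¹ * e⁻¹ ∈ T := by
    have h3 : e * t⁻¹ * e⁻¹ ∈ T := ECN_conj_mem T (Subgroup.mem_inf.mp he).1 (Subgroup.inv_mem _ ht)
    have h4 : t * (e * t⁻¹ * e⁻¹) ∈ T := Subgroup.mul_mem _ ht h3
    have h5 : t * e * t⁻¹ * e⁻¹ = t * (e * t⁻¹ * e⁻¹) := by simp [mul_assoc]
    rw [h5]; exact h4
  have h3 := ECD_inter_T T hnc hnn hC u huH h1 h2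
  have h4 : e * t * e⁻¹ = t := by
    have h5 : t * e = e * t := by
      have := mul_inv_eq_one.mp h3
      exact mul_inv_eq_iff_eq_mul.mp this
    rw [← h5]; simp
  by_cases ht1 : t = 1
  · subst ht1; simpa using hd
  · exact absurd (ECD_free T hnc hnn hC u huH he ht ht1 h4) he1

lemma mk_ne_one_of_not_mem {H : Subgroup G} {v : G} (hv : v ∉ H) :
    (QuotientGroup.mk 1 : G ⧸ H) ≠ QuotientGroup.mk v := by
  intro h
  rw [QuotientGroup.eq] at h
  simp at h
  exact hv h

include hnc hnn hC hu huH in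
theorem EC_fixed_points {x : G ⧸ ECN T} (hx : ∀ d ∈ ECD T u, d • x = x) :
    x = QuotientGroup.mk 1 ∨ x = QuotientGroup.mk u := by
  have hSE := EC_stronglyEmbedded T hnc hC hnn
  by_contra hcon
  push Not at hcon
  obtain ⟨hx0, hxu⟩ := hcon
  -- helper: any fixed point other than the base point gives an inverting involution
  have key : ∀ z : G ⧸ ECN T, (∀ d ∈ ECD T u, d • z = z) → z ≠ QuotientGroup.mk 1 →
      ∃ v : G, orderOf v = 2 ∧ v • (QuotientGroup.mk 1 : G ⧸ ECN T) = z ∧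
        ∀ d ∈ ECD T u, v * d * v⁻¹ = d⁻¹ := by
    intro z hz hz0
    obtain ⟨v, hv, hvz⟩ := SE_exists_swap hSE hz0.symm
    have hvz' : (QuotientGroup.mk v : G ⧸ ECN T) = z := by
      rw [← hvz, MulAction.Quotient.smul_mk, smul_eq_mul, mul_one]
    have hvH : v ∉ ECN T := by
      intro h
      apply hz0
      rw [← hvz', eq_comm, QuotientGroup.eq]
      simpa using h
    have hD := ECD_eq_of_fix T hnc hnn hC u hu huH hv hvH (by rw [hvz']; exact hz)
    refine ⟨v, hv, hvz, fun d hd => ?_⟩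
    exact ECD_inverted T hnc hnn hC v hv hvH (by rw [hD]; exact hd)
  obtain ⟨v, hv, hvx, hvinv⟩ := key x hx hx0
  have hux : ∀ d ∈ ECD T u, d • (u • x) = u • x := by
    intro d hd
    have h1 : u * d * u⁻¹ ∈ ECD T u := ECD_conj_mem T u hu hd
    have h2 := hx _ h1
    have h3 : d • u • x = u • ((u * d * u⁻¹) • x) := by
      rw [← mul_smul, ← mul_smul, invol_inv hu]
      congr 1
      have huu := invol_mul_self hu
      rw [← mul_assoc, ← mul_assoc, huu, one_mul]
    rw [h3, h2]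
  have hux0 : u • x ≠ QuotientGroup.mk 1 := by
    intro h
    apply hxu
    have : x = u⁻¹ • (QuotientGroup.mk 1 : G ⧸ ECN T) := by rw [← h, inv_smul_smul]
    rw [this, invol_inv hu, MulAction.Quotient.smul_mk, smul_eq_mul, mul_one]
  obtain ⟨w, hw, hwx, hwinv⟩ := key (u • x) hux hux0
  -- c = w⁻¹ u v fixes the base point and inverts D
  have hc : w⁻¹ * (u * v) ∈ ECN T := by
    have h1 : (w⁻¹ * (u * v)) • (QuotientGroup.mk 1 : G ⧸ ECN T) = QuotientGroup.mk 1 := by
      rw [mul_smul, mul_smul, hvx, ← hwx, inv_smul_smul]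
    rw [smul_mk_eq_mk_iff] at h1
    simpa using h1
  have hcinv : ∀ d ∈ ECD T u, (w⁻¹ * (u * v)) * d * (w⁻¹ * (u * v))⁻¹ = d⁻¹ := by
    intro d hd
    have h1 := hvinv d hd
    have h2 := ECD_inverted T hnc hnn hC u hu huH (Subgroup.inv_mem _ hd)
    have h3 := hwinv d hd
    calc (w⁻¹ * (u * v)) * d * (w⁻¹ * (u * v))⁻¹
        = w⁻¹ * (u * (v * d * v⁻¹) * u⁻¹) * w := by simp [mul_assoc]
      _ = w⁻¹ * d * w := by rw [h1, h2, inv_inv]
      _ = w * d * w⁻¹ := by rw [invol_inv hw]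
      _ = d⁻¹ := h3
  have hcN : w⁻¹ * (u * v) ∈ Subgroup.normalizer ((ECD T u : Subgroup G) : Set G) := by
    rw [Subgroup.mem_normalizer_iff]
    intro d
    constructor
    · intro hd
      rw [hcinv d hd]
      exact Subgroup.inv_mem _ hd
    · intro hd
      have h1 := hcinv _ hd
      set c := w⁻¹ * (u * v) with hcdef
      -- c (c d c⁻¹) c⁻¹ = (c d c⁻¹)⁻¹, apply the inversion to the inverse
      have h2 : c * (c * d * c⁻¹)⁻¹ * c⁻¹ = c * d * c⁻¹ := by
        have := hcinv _ (Subgroup.inv_mem _ hd)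
        rwa [inv_inv] at this
      have h3 : (c * d * c⁻¹)⁻¹ = d := by
        have h4 : c⁻¹ * (c * (c * d * c⁻¹)⁻¹ * c⁻¹) * c = c⁻¹ * (c * d * c⁻¹) * c := by rw [h2]
        simpa [mul_assoc] using h4
      rw [← h3]
      exact Subgroup.inv_mem _ hd
  have hcD := ECN_normalizer_D T hnc hnn hC u hu huH hc hcN
  obtain ⟨e, he, he1⟩ := ECD_exists_ne_one T hnc hnn hC u hu huH
  have h1 := hcinv e he
  rw [ECD_comm T hnc hnn hC u hu huH hcD he, mul_assoc, mul_inv_cancel, mul_one] at h1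
  apply he1
  apply ECD_eq_one_of_sq T hnc hnn hC u huH he
  rw [sq]
  nth_rewrite 1 [h1]
  simp

include hnc hnn hC hu huH in
theorem EC_normalizer_D_eq :
    Subgroup.normalizer ((ECD T u : Subgroup G) : Set G) = ECD T u ⊔ Subgroup.zpowers u := by
  have huN : u ∈ Subgroup.normalizer ((ECD T u : Subgroup G) : Set G) := by
    rw [Subgroup.mem_normalizer_iff]
    intro d
    constructor
    · exact fun hd => ECD_conj_mem T u hu hd
    · intro hd
      have := ECD_conj_mem T u hu hd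
      have huu := invol_mul_self hu
      rw [invol_inv hu] at this
      have h2 : u * (u * d * u) * u = (u * u) * d * (u * u) := by simp [mul_assoc]
      rw [h2, huu, one_mul, mul_one] at this
      exact this
  apply le_antisymm
  · intro m hm
    have hfix : ∀ d ∈ ECD T u, d • (m • (QuotientGroup.mk 1 : G ⧸ ECN T)) =
        m • (QuotientGroup.mk 1 : G ⧸ ECN T) := by
      intro d hd
      have h1 : m⁻¹ * d * m ∈ ECD T u := by
        have := (Subgroup.mem_normalizer_iff.mp (Subgroup.inv_mem _ hm) d).mp hd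
        simpa using this
      have h2 := ((mem_ECD_iff T).mp h1).1
      have h3 : d • m • (QuotientGroup.mk 1 : G ⧸ ECN T) =
          m • ((m⁻¹ * d * m) • (QuotientGroup.mk 1 : G ⧸ ECN T)) := by
        rw [← mul_smul, ← mul_smul]
        congr 1
        simp [mul_assoc]
      rw [h3, h2]
    rcases EC_fixed_points T hnc hnn hC u hu huH hfix with h | h
    · rw [smul_mk_eq_mk_iff] at h
      have hmH : m ∈ ECN T := by simpa using h
      exact (le_sup_left : ECD T u ≤ _) (ECN_normalizer_D T hnc hnn hC u hu huH hmH hm)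
    · rw [smul_mk_eq_mk_iff] at h
      have hmH : u⁻¹ * m ∈ ECN T := by simpa using h
      have h1 := ECN_normalizer_D T hnc hnn hC u hu huH hmH
        (Subgroup.mul_mem _ (Subgroup.inv_mem _ huN) hm)
      have h2 : m = u * (u⁻¹ * m) := by simp
      rw [h2]
      exact Subgroup.mul_mem _ ((le_sup_right : Subgroup.zpowers u ≤ _) (Subgroup.mem_zpowers u))
        ((le_sup_left : ECD T u ≤ _) h1)
  · rw [sup_le_iff]
    exact ⟨Subgroup.le_normalizer, by rw [Subgroup.zpowers_le]; exact huN⟩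

end Cfsg.Agent.Lib.Helper26
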