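import Mathlib
import Cfsg.Agent.Lib.Helper84.PS.Defs
import Cfsg.Agent.Lib.Helper58.PRegularCentral

set_option autoImplicit false

namespace Cfsg.Agent.Lib.Helper26.PS

open Cfsg.Agent.Lib.Helper84.PS

variable {G : Type*} [Group G]

/-- commuting elements of coprime orders are powers of their product -/
theorem st3_pow (u y : G) (h : Commute u y) (hc : (orderOf u).Coprime (orderOf y)) :
    (∃ n : ℕ, (u * y) ^ n = u) ∧ ∃ n : ℕ, (u * y) ^ n = y := by
  constructor
  · obtain ⟨n, hn1, hn2⟩ := Nat.chineseRemainder hc 1 0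
    refine ⟨n, ?_⟩
    rw [h.mul_pow, pow_eq_pow_iff_modEq.mpr hn1, pow_eq_pow_iff_modEq.mpr hn2, pow_one, pow_zero,
      mul_one]
  · obtain ⟨n, hn1, hn2⟩ := Nat.chineseRemainder hc 0 1
    refine ⟨n, ?_⟩
    rw [h.mul_pow, pow_eq_pow_iff_modEq.mpr hn1, pow_eq_pow_iff_modEq.mpr hn2, pow_one, pow_zero,
      one_mul]

theorem st3_cent_le (z x : G) (h : ∃ n : ℕ, z ^ n = x) :
    Subgroup.centralizer ({z} : Set G) ≤ Subgroup.centralizer ({x} : Set G) := by
  obtain ⟨n, rfl⟩ := h
  intro g hg
  rw [Subgroup.mem_centralizer_singleton_iff] at hg ⊢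
  have : Commute g z := hg
  exact this.pow_right n

theorem st3 [Finite G] (p : ℕ) [Fact p.Prime] (u : G) (hup : IsPE p u) (hu : u ≠ 1)
    (t : ℕ) (ht : t ∣ idx u) (hNA : ¬ Lk G p t p)
    (P : Sylow p G) (hP : (P : Subgroup G) ≤ Subgroup.centralizer ({u} : Set G))
    (w : G) (hw : Commute w u) (hwp : ¬ p ∣ orderOf w) : ∀ x ∈ (P : Subgroup G), Commute w x := by
  have hp : p.Prime := Fact.out
  obtain ⟨e, he⟩ := hup
  obtain ⟨k, hk, hku⟩ := (Nat.dvd_prime_pow hp).mp (orderOf_dvd_of_pow_eq_one he)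
  have hk0 : k ≠ 0 := by
    rintro rfl
    rw [pow_zero, orderOf_eq_one_iff] at hku
    exact hu hku
  have hpu : p ∣ orderOf u := by rw [hku]; exact dvd_pow_self p hk0
  set C : Subgroup G := Subgroup.centralizer ({u} : Set G) with hC
  have key : ∀ y : C, (orderOf y).Coprime p →
      ¬ p ∣ (Subgroup.centralizer ({y} : Set C)).index := by
    intro y hy
    have hyu : Commute u (y : G) := by
      have h0 : (y : G) ∈ Subgroup.centralizer ({u} : Set G) := y.2
      rw [Subgroup.mem_centralizer_singleton_iff] at h0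
      exact (show Commute (y : G) u from h0).symm
    have hco : (orderOf u).Coprime (orderOf (y : G)) := by
      rw [hku, Subgroup.orderOf_coe]
      exact (Nat.Coprime.pow_left k hy.symm)
    obtain ⟨h1, h2⟩ := st3_pow u (y : G) hyu hco
    have hle1 := st3_cent_le (u * (y : G)) u h1
    have hle2 := st3_cent_le (u * (y : G)) (y : G) h2
    have hord : p ∣ orderOf (u * (y : G)) := by
      rw [hyu.orderOf_mul_eq_mul_orderOf_of_coprime hco]
      exact hpu.mul_right _
    have hnp : ¬ p ∣ idx (u * (y : G)) := by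
      intro hcon
      exact hNA ⟨u * (y : G), hord, ht.trans (Subgroup.index_dvd_of_le hle1), hcon⟩
    intro hcon
    apply hnp
    have h3 : (Subgroup.centralizer ({u * (y : G)} : Set G)).subgroupOf C ≤
        Subgroup.centralizer ({y} : Set C) := by
      intro g hg
      rw [Subgroup.mem_subgroupOf] at hg
      have h4 := hle2 hg
      rw [Subgroup.mem_centralizer_singleton_iff] at h4 ⊢
      exact Subtype.ext h4
    have h5 := Subgroup.index_dvd_of_le h3
    have h6 : (Subgroup.centralizer ({u * (y : G)} : Set G)).relIndex C * C.index =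
        (Subgroup.centralizer ({u * (y : G)} : Set G)).index := Subgroup.relIndex_mul_index hle1
    show p ∣ (Subgroup.centralizer ({u * (y : G)} : Set G)).index
    rw [← h6]
    exact (hcon.trans h5).mul_right _
  have hres := (Cfsg.Agent.Lib.Helper58.sylow_normal_of_pregular_index key (P.subtype hP)).2
  have hwC : w ∈ C := by
    rw [hC, Subgroup.mem_centralizer_singleton_iff]
    exact hw
  have hw' := hres ⟨w, hwC⟩ (by
    rw [← Subgroup.orderOf_coe]
    exact ((Nat.Prime.coprime_iff_not_dvd hp).mpr hwp).symm)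
  intro x hx
  rw [Subgroup.mem_centralizer_iff] at hw'
  have h7 := hw' ⟨x, hP hx⟩ (by
    show (⟨x, hP hx⟩ : C) ∈ ((P.subtype hP : Sylow p C) : Subgroup C)
    rw [Sylow.coe_subtype, Subgroup.mem_subgroupOf]
    exact hx)
  exact (congrArg Subtype.val h7).symm

end Cfsg.Agent.Lib.Helper26.PS
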