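import Mathlib

/-! Thompson dihedral lemma, part 1: an elementary abelian 2-group acting on a solvable group of odd
order acts faithfully on an invariant abelian subgroup. -/

set_option autoImplicit false

namespace Cfsg.Agent.Lib.Helper26

open scoped commutatorElement

section TD
variable {G : Type*} [Group G]

/-- elementwise form of elementary abelian 2-group -/
structure E2 (A : Subgroup G) : Prop where
  comm : ∀ a ∈ A, ∀ b ∈ A, a * b = b * a
  sq : ∀ a ∈ A, a * a = 1

/-- `X` is invariant under conjugation by `A`. -/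
def CInv (A X : Subgroup G) : Prop := ∀ a ∈ A, ∀ x ∈ X, a * x * a⁻¹ ∈ X

theorem CInv.sup {A X Y : Subgroup G} (hX : CInv A X) (hY : CInv A Y) : CInv A (X ⊔ Y) := by
  intro a ha x hx
  have h1 : (X ⊔ Y).map (MulAut.conj a).toMonoidHom ≤ X ⊔ Y := by
    rw [Subgroup.map_sup]
    apply sup_le_sup
    · rintro _ ⟨y, hy, rfl⟩
      exact hX a ha y hy
    · rintro _ ⟨y, hy, rfl⟩
      exact hY a ha y hy
  exact h1 ⟨x, hx, rfl⟩

theorem CInv.inf {A X Y : Subgroup G} (hX : CInv A X) (hY : CInv A Y) : CInv A (X ⊓ Y) := by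
  intro a ha x hx
  exact ⟨hX a ha x hx.1, hY a ha x hx.2⟩

theorem CInv.centralizer {A X : Subgroup G} (hX : CInv A X) :
    CInv A (Subgroup.centralizer (X : Set G)) := by
  intro a ha c hc
  rw [Subgroup.mem_centralizer_iff] at hc ⊢
  intro m hm
  have h1 := hc (a⁻¹ * m * a⁻¹⁻¹) (hX a⁻¹ (inv_mem ha) m hm)
  rw [inv_inv] at h1
  calc m * (a * c * a⁻¹) = a * ((a⁻¹ * m * a) * c) * a⁻¹ := by group
    _ = a * (c * (a⁻¹ * m * a)) * a⁻¹ := by rw [h1]
    _ = a * c * a⁻¹ * m := by group

theorem CInv.commutator {A X : Subgroup G} (hX : CInv A X) : CInv A ⁅X, X⁆ := by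
  intro a ha x hx
  have h1 : (⁅X, X⁆).map (MulAut.conj a).toMonoidHom ≤ ⁅X, X⁆ := by
    rw [Subgroup.map_commutator]
    have h2 : X.map (MulAut.conj a).toMonoidHom ≤ X := by
      rintro _ ⟨y, hy, rfl⟩
      exact hX a ha y hy
    exact Subgroup.commutator_mono h2 h2
  exact h1 ⟨x, hx, rfl⟩

theorem CInv.of_le_normalizer {A X : Subgroup G} (h : A ≤ Subgroup.normalizer (X : Set G)) :
    CInv A X := by
  intro a ha x hx
  exact (Subgroup.mem_normalizer_iff.1 (h ha) x).1 hx

theorem eq_one_of_sq_odd [Finite G] {L : Subgroup G} (hodd : Odd (Nat.card L)) {c : G} (hc : c ∈ L)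
    (h : c * c = 1) : c = 1 := by
  have h1 : orderOf c ∣ 2 := orderOf_dvd_of_pow_eq_one (by rw [pow_two, h])
  have h2 : orderOf c ∣ Nat.card L := by
    have := orderOf_dvd_natCard (⟨c, hc⟩ : L)
    rwa [Subgroup.orderOf_mk] at this
  have h3 : orderOf c = 1 := by
    rcases (Nat.dvd_prime Nat.prime_two).1 h1 with h | h
    · exact h
    · exfalso
      rw [h] at h2
      exact (Nat.not_even_iff_odd.2 hodd) (even_iff_two_dvd.2 h2)
  exact orderOf_eq_one_iff.1 h3

/-- An involution acting on an odd order group and centralizing all its own commutators acts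
trivially. -/
theorem comm_of_comm_commutators [Finite G] {L : Subgroup G} (hodd : Odd (Nat.card L)) {a : G}
    (ha2 : a * a = 1) (haL : ∀ x ∈ L, a * x * a⁻¹ ∈ L)
    (h : ∀ x ∈ L, a * (x⁻¹ * (a * x * a⁻¹)) = (x⁻¹ * (a * x * a⁻¹)) * a) :
    ∀ x ∈ L, a * x = x * a := by
  intro x hx
  have hai : a⁻¹ = a := inv_eq_of_mul_eq_one_left ha2
  have hc : x⁻¹ * (a * x * a⁻¹) ∈ L := mul_mem (inv_mem hx) (haL x hx)
  have h1 : (x⁻¹ * (a * x * a⁻¹)) * (x⁻¹ * (a * x * a⁻¹)) = 1 := by
    have h2 := h x hx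
    have h3 : a * (x⁻¹ * (a * x * a⁻¹)) * a⁻¹ = (x⁻¹ * (a * x * a⁻¹))⁻¹ := by
      calc a * (x⁻¹ * (a * x * a⁻¹)) * a⁻¹ = a * x⁻¹ * (a * (x * (a⁻¹ * a⁻¹))) := by group
        _ = a * x⁻¹ * (a * (x * (a * a))) := by rw [hai]
        _ = a * x⁻¹ * a⁻¹ * x := by rw [ha2, hai]; group
        _ = (x⁻¹ * (a * x * a⁻¹))⁻¹ := by group
    rw [h2, mul_inv_cancel_right] at h3
    calc (x⁻¹ * (a * x * a⁻¹)) * (x⁻¹ * (a * x * a⁻¹))
        = (x⁻¹ * (a * x * a⁻¹)) * (x⁻¹ * (a * x * a⁻¹))⁻¹ := by rw [← h3]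
      _ = 1 := mul_inv_cancel _
  have h2 := eq_one_of_sq_odd hodd hc h1
  have h3 : a * x * a⁻¹ = x := by
    have := congrArg (fun t => x * t) h2
    simpa using this
  calc a * x = a * x * a⁻¹ * a := by group
    _ = x * a := by rw [h3]

/-- The elements of `L` fixed by `a` modulo the central subgroup `Z`. -/
def fixMod (L Z : Subgroup G) (hZ : ∀ z ∈ Z, ∀ x ∈ L, z * x = x * z) (a : G) : Subgroup G where
  carrier := {y | y ∈ L ∧ y⁻¹ * (a * y * a⁻¹) ∈ Z}
  one_mem' := ⟨one_mem _, by simp⟩
  mul_mem' := by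
    rintro y1 y2 ⟨h1, h1'⟩ ⟨h2, h2'⟩
    refine ⟨mul_mem h1 h2, ?_⟩
    have e : (y1 * y2)⁻¹ * (a * (y1 * y2) * a⁻¹)
        = (y1⁻¹ * (a * y1 * a⁻¹)) * (y2⁻¹ * (a * y2 * a⁻¹)) := by
      have := hZ _ h1' y2⁻¹ (inv_mem h2)
      calc (y1 * y2)⁻¹ * (a * (y1 * y2) * a⁻¹)
          = (y2⁻¹ * (y1⁻¹ * (a * y1 * a⁻¹))) * (a * y2 * a⁻¹) := by group
        _ = ((y1⁻¹ * (a * y1 * a⁻¹)) * y2⁻¹) * (a * y2 * a⁻¹) := by rw [this]
        _ = _ := by group
    rw [e]
    exact mul_mem h1' h2'
  inv_mem' := by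
    rintro y ⟨h1, h1'⟩
    refine ⟨inv_mem h1, ?_⟩
    have e : y⁻¹⁻¹ * (a * y⁻¹ * a⁻¹) = (y⁻¹ * (a * y * a⁻¹))⁻¹ := by
      have := hZ _ h1' y⁻¹ (inv_mem h1)
      calc y⁻¹⁻¹ * (a * y⁻¹ * a⁻¹) = (y * (y⁻¹ * (a * y * a⁻¹) * y⁻¹))⁻¹ := by group
        _ = (y * (y⁻¹ * (y⁻¹ * (a * y * a⁻¹))))⁻¹ := by rw [this]
        _ = _ := by group
    rw [e]
    exact inv_mem h1'

theorem mem_fixMod {L Z : Subgroup G} {hZ : ∀ z ∈ Z, ∀ x ∈ L, z * x = x * z} {a y : G} :
    y ∈ fixMod L Z hZ a ↔ y ∈ L ∧ y⁻¹ * (a * y * a⁻¹) ∈ Z := Iff.rfl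

theorem abelian_sup {V0 V1 : Subgroup G} (h0 : ∀ x ∈ V0, ∀ y ∈ V0, x * y = y * x)
    (h1 : ∀ x ∈ V1, ∀ y ∈ V1, x * y = y * x) (h01 : ∀ x ∈ V0, ∀ y ∈ V1, x * y = y * x) :
    ∀ x ∈ V0 ⊔ V1, ∀ y ∈ V0 ⊔ V1, x * y = y * x := by
  have key : V0 ⊔ V1 ≤ Subgroup.centralizer ((V0 ⊔ V1 : Subgroup G) : Set G) := by
    apply sup_le
    · rw [Subgroup.le_centralizer_iff]
      apply sup_le
      · intro x hx
        rw [Subgroup.mem_centralizer_iff]
        intro y hy
        exact h0 y hy x hx
      · intro x hx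
        rw [Subgroup.mem_centralizer_iff]
        intro y hy
        exact h01 y hy x hx
    · rw [Subgroup.le_centralizer_iff]
      apply sup_le
      · intro x hx
        rw [Subgroup.mem_centralizer_iff]
        intro y hy
        exact (h01 x hx y hy).symm
      · intro x hx
        rw [Subgroup.mem_centralizer_iff]
        intro y hy
        exact h1 y hy x hx
  intro x hx y hy
  exact (Subgroup.mem_centralizer_iff.1 (key hy) x hx)

theorem comm_sup {V0 V1 : Subgroup G} {a : G} (h0 : ∀ x ∈ V0, a * x = x * a)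
    (h1 : ∀ x ∈ V1, a * x = x * a) : ∀ x ∈ V0 ⊔ V1, a * x = x * a := by
  have key : V0 ⊔ V1 ≤ Subgroup.centralizer ({a} : Set G) := by
    apply sup_le
    · intro x hx
      rw [Subgroup.mem_centralizer_singleton_iff]
      exact (h0 x hx).symm
    · intro x hx
      rw [Subgroup.mem_centralizer_singleton_iff]
      exact (h1 x hx).symm
  intro x hx
  exact (Subgroup.mem_centralizer_singleton_iff.1 (key hx)).symm

/-- An elementary abelian 2-group `A` acting on a solvable group `L` of odd order: there is an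
`A`-invariant abelian subgroup `V` of `L` with `C_A(V) = C_A(L)`. -/
theorem exists_abelian_faithful [Finite G] {A : Subgroup G} (hA : E2 A) :
    ∀ (n : ℕ) (L : Subgroup G), Nat.card L ≤ n → Group.IsSolvable L → Odd (Nat.card L) → CInv A L →
      ∃ V : Subgroup G, V ≤ L ∧ (∀ x ∈ V, ∀ y ∈ V, x * y = y * x) ∧ CInv A V ∧
        ∀ a ∈ A, (∀ v ∈ V, a * v = v * a) → ∀ x ∈ L, a * x = x * a := by
  intro n
  induction n with
  | zero =>
    intro L hn
    exfalso
    have := Nat.card_pos (α := L)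
    omega
  | succ n ih =>
    intro L hn hsol hodd hinv
    by_cases hab : ∀ x ∈ L, ∀ y ∈ L, x * y = y * x
    · exact ⟨L, le_rfl, hab, hinv, fun a _ h => h⟩
    have hsub : ∀ M : Subgroup G, M < L → Nat.card M ≤ n ∧ Group.IsSolvable M ∧ Odd (Nat.card M) := by
      intro M hM
      refine ⟨?_, ?_, ?_⟩
      · have : Nat.card M < Nat.card L := by
          have := Set.ncard_lt_ncard (s := (M : Set G)) (t := (L : Set G))
            (by exact_mod_cast hM) (Set.toFinite _)
          rw [← Nat.card_coe_set_eq, ← Nat.card_coe_set_eq] at this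
          exact this
        omega
      · exact Group.isSolvable_of_isSolvable_injective (Subgroup.inclusion_injective hM.le)
      · exact Odd.of_dvd_nat hodd (Subgroup.card_dvd_of_le hM.le)
    by_cases hM : ∃ M : Subgroup G, M < L ∧ CInv L M ∧ CInv A M ∧ ¬ (∀ m ∈ M, ∀ x ∈ L, m * x = x * m)
    · -- case (a)
      obtain ⟨M, hML, hLM, hAM, hnc⟩ := hM
      set C : Subgroup G := L ⊓ Subgroup.centralizer (M : Set G) with hC
      have hCL : C < L := by
        refine lt_of_le_of_ne inf_le_left ?_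
        intro h
        apply hnc
        intro m hm x hx
        have : x ∈ C := by rw [h]; exact hx
        exact Subgroup.mem_centralizer_iff.1 this.2 m hm
      have hAC : CInv A C := hinv.inf hAM.centralizer
      obtain ⟨c1, c2, c3⟩ := hsub M hML
      obtain ⟨d1, d2, d3⟩ := hsub C hCL
      obtain ⟨V0, hV0, hV0ab, hV0inv, hV0f⟩ := ih M c1 c2 c3 hAM
      obtain ⟨V1, hV1, hV1ab, hV1inv, hV1f⟩ := ih C d1 d2 d3 hAC
      refine ⟨V0 ⊔ V1, sup_le (hV0.trans hML.le) (hV1.trans hCL.le), ?_, hV0inv.sup hV1inv, ?_⟩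
      · apply abelian_sup hV0ab hV1ab
        intro x hx y hy
        exact Subgroup.mem_centralizer_iff.1 (hV1 hy).2 x (hV0 hx)
      · intro a ha hav
        have e0 := hV0f a ha (fun v hv => hav v (Subgroup.mem_sup_left hv))
        have e1 := hV1f a ha (fun v hv => hav v (Subgroup.mem_sup_right hv))
        apply comm_of_comm_commutators hodd (hA.sq a ha) (hinv a ha)
        intro x hx
        apply e1
        refine Subgroup.mem_inf.2 ⟨mul_mem (inv_mem hx) (hinv a ha x hx), ?_⟩
        rw [Subgroup.mem_centralizer_iff]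
        intro m hm
        -- x m' x⁻¹ ∈ M is centralized by a
        have f1 : x * m * x⁻¹ ∈ M := hLM x hx m hm
        have f2 := e0 _ f1
        have f3 := e0 m hm
        have f4 : a⁻¹ * m = m * a⁻¹ := by
          calc a⁻¹ * m = a⁻¹ * (m * a) * a⁻¹ := by group
            _ = a⁻¹ * (a * m) * a⁻¹ := by rw [f3]
            _ = m * a⁻¹ := by group
        have f5 : (a * x * a⁻¹) * m * (a * x * a⁻¹)⁻¹ = x * m * x⁻¹ := by
          calc (a * x * a⁻¹) * m * (a * x * a⁻¹)⁻¹ = a * x * (a⁻¹ * m) * a * x⁻¹ * a⁻¹ := by group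
            _ = a * x * (m * a⁻¹) * a * x⁻¹ * a⁻¹ := by rw [f4]
            _ = (a * (x * m * x⁻¹)) * a⁻¹ := by group
            _ = ((x * m * x⁻¹) * a) * a⁻¹ := by rw [f2]
            _ = x * m * x⁻¹ := by group
        calc m * (x⁻¹ * (a * x * a⁻¹)) = x⁻¹ * (x * m * x⁻¹) * (a * x * a⁻¹) := by group
          _ = x⁻¹ * ((a * x * a⁻¹) * m * (a * x * a⁻¹)⁻¹) * (a * x * a⁻¹) := by rw [f5]
          _ = x⁻¹ * (a * x * a⁻¹) * m := by group
    · -- case (b)
      exfalso
      push Not at hM
      set Z : Subgroup G := L ⊓ Subgroup.centralizer (L : Set G) with hZdef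
      have hZc : ∀ z ∈ Z, ∀ x ∈ L, z * x = x * z := by
        intro z hz x hx
        exact (Subgroup.mem_centralizer_iff.1 hz.2 x hx).symm
      have hZA : CInv A Z := hinv.inf hinv.centralizer
      have hmemZ : ∀ z ∈ L, (∀ x ∈ L, z * x = x * z) → z ∈ Z := by
        intro z hz h
        refine Subgroup.mem_inf.2 ⟨hz, ?_⟩
        rw [Subgroup.mem_centralizer_iff]
        intro x hx
        exact (h x hx).symm
      -- commutators are central
      have hcomm : ∀ x ∈ L, ∀ y ∈ L, ⁅x, y⁆ ∈ Z := by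
        have hlt : ⁅L, L⁆ < L := by
          have : Nontrivial L := by
            by_contra hnt
            rw [not_nontrivial_iff_subsingleton] at hnt
            apply hab
            intro x hx y hy
            have : (⟨x, hx⟩ : L) = ⟨y, hy⟩ := Subsingleton.elim _ _
            have : x = y := congrArg Subtype.val this
            rw [this]
          have h1 := Group.IsSolvable.commutator_lt_top_of_nontrivial L
          rw [← Subgroup.map_subtype_commutator]
          refine lt_of_le_of_ne (Subgroup.map_subtype_le _) ?_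
          intro h2
          apply h1.ne
          apply Subgroup.map_injective L.subtype_injective
          rw [h2, ← MonoidHom.range_eq_map, Subgroup.range_subtype]
        have hn : CInv L ⁅L, L⁆ := by
          have : CInv L L := fun a ha x hx => mul_mem (mul_mem ha hx) (inv_mem ha)
          exact this.commutator
        have := hM _ hlt hn hinv.commutator
        intro x hx y hy
        have hxy := Subgroup.commutator_mem_commutator hx hy
        exact hmemZ _ (hlt.le hxy) (this _ hxy)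
      -- subgroups between Z and L
      have hbetween : ∀ M : Subgroup G, Z ≤ M → M ≤ L → CInv A M → M = L ∨ M ≤ Z := by
        intro M h1 h2 h3
        by_cases h4 : M = L
        · exact Or.inl h4
        right
        have hn : CInv L M := by
          intro x hx m hm
          have : x * m * x⁻¹ = ⁅x, m⁆ * m := by
            rw [commutatorElement_def]; group
          rw [this]
          exact mul_mem (h1 (hcomm x hx m (h2 hm))) hm
        have := hM M (lt_of_le_of_ne h2 h4) hn h3
        intro m hm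
        exact hmemZ m (h2 hm) (this m hm)
      -- choose x outside Z
      obtain ⟨x, hx, hxZ⟩ : ∃ x ∈ L, x ∉ Z := by
        by_contra hcon
        push Not at hcon
        apply hab
        intro x hx y hy
        exact hZc x (hcon x hx) y hy
      set M : Subgroup G := Z ⊔ Subgroup.zpowers x with hMdef
      have hxM : x ∈ M := Subgroup.mem_sup_right (Subgroup.mem_zpowers x)
      have hML : M ≤ L := sup_le inf_le_left (Subgroup.zpowers_le.2 hx)
      have hMab : ∀ u ∈ M, ∀ v ∈ M, u * v = v * u := by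
        apply abelian_sup
        · intro u hu v hv
          exact hZc u hu v hv.1
        · intro u hu v hv
          obtain ⟨i, rfl⟩ := Subgroup.mem_zpowers_iff.1 hu
          obtain ⟨j, rfl⟩ := Subgroup.mem_zpowers_iff.1 hv
          exact (Commute.zpow_zpow_self x i j)
        · intro u hu v hv
          exact hZc u hu v (Subgroup.zpowers_le.2 hx hv)
      have hMA : CInv A M := by
        have hxa : ∀ a ∈ A, a * x * a⁻¹ ∈ M := by
          intro a ha
          have hai : a⁻¹ = a := inv_eq_of_mul_eq_one_left (hA.sq a ha)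
          have hD1 : Z ≤ fixMod L Z hZc a := by
            intro z hz
            exact ⟨hz.1, mul_mem (inv_mem hz) (hZA a ha z hz)⟩
          have hD2 : fixMod L Z hZc a ≤ L := fun y hy => hy.1
          have hD3 : CInv A (fixMod L Z hZc a) := by
            intro b hb y hy
            refine ⟨hinv b hb y hy.1, ?_⟩
            have hab' := hA.comm a ha b hb
            have e : (b * y * b⁻¹)⁻¹ * (a * (b * y * b⁻¹) * a⁻¹) = b * (y⁻¹ * (a * y * a⁻¹)) * b⁻¹ := by
              have hab2 : b⁻¹ * a⁻¹ = a⁻¹ * b⁻¹ := by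
                rw [← mul_inv_rev, ← mul_inv_rev, hab']
              calc (b * y * b⁻¹)⁻¹ * (a * (b * y * b⁻¹) * a⁻¹)
                  = b * y⁻¹ * b⁻¹ * ((a * b) * y * (b⁻¹ * a⁻¹)) := by group
                _ = b * y⁻¹ * b⁻¹ * ((b * a) * y * (a⁻¹ * b⁻¹)) := by rw [hab', hab2]
                _ = _ := by group
            rw [e]
            exact hZA b hb _ hy.2
          rcases hbetween _ hD1 hD2 hD3 with h | h
          · have : x ∈ fixMod L Z hZc a := by rw [h]; exact hx
            have h2 : a * x * a⁻¹ = x * (x⁻¹ * (a * x * a⁻¹)) := by group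
            rw [h2]
            exact mul_mem hxM (Subgroup.mem_sup_left this.2)
          · have hy : x * (a * x * a⁻¹) ∈ fixMod L Z hZc a := by
              refine ⟨mul_mem hx (hinv a ha x hx), ?_⟩
              have e : (x * (a * x * a⁻¹))⁻¹ * (a * (x * (a * x * a⁻¹)) * a⁻¹)
                  = ⁅(a * x * a⁻¹)⁻¹, x⁻¹⁆ := by
                rw [commutatorElement_def]
                calc (x * (a * x * a⁻¹))⁻¹ * (a * (x * (a * x * a⁻¹)) * a⁻¹)
                    = (a * x * a⁻¹)⁻¹ * x⁻¹ * (a * x * a⁻¹) * ((a * a) * x * (a⁻¹ * a⁻¹)) := by group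
                  _ = (a * x * a⁻¹)⁻¹ * x⁻¹ * (a * x * a⁻¹) * ((a * a) * x * (a * a)) := by rw [hai]
                  _ = _ := by rw [hA.sq a ha]; group
              rw [e]
              exact hcomm _ (inv_mem (hinv a ha x hx)) _ (inv_mem hx)
            have h2 : a * x * a⁻¹ = x⁻¹ * (x * (a * x * a⁻¹)) := by group
            rw [h2]
            exact mul_mem (inv_mem hxM) (Subgroup.mem_sup_left (h hy))
        intro a ha u hu
        have h1 : M.map (MulAut.conj a).toMonoidHom ≤ M := by
          rw [hMdef, Subgroup.map_sup]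
          apply sup_le
          · rintro _ ⟨y, hy, rfl⟩
            exact Subgroup.mem_sup_left (hZA a ha y hy)
          · rw [MonoidHom.map_zpowers, Subgroup.zpowers_le]
            exact hxa a ha
        exact h1 ⟨u, hu, rfl⟩
      rcases hbetween M le_sup_left hML hMA with h | h
      · apply hab
        rw [← h]
        exact hMab
      · exact hxZ (h hxM)

end TD

end Cfsg.Agent.Lib.Helper26
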