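import Cfsg.Agent.Lib.Helper26.ThompsonDih

/-! Thompson dihedral lemma, part 2: dual systems in an abelian group of odd order. -/

set_option autoImplicit false

namespace Cfsg.Agent.Lib.Helper26

section TD2
variable {G : Type*} [Group G]

/-- The elements of the abelian group `V` inverted by `a`. -/
def invSub (V : Subgroup G) (hV : ∀ x ∈ V, ∀ y ∈ V, x * y = y * x) (a : G) : Subgroup G where
  carrier := {v | v ∈ V ∧ a * v * a⁻¹ = v⁻¹}
  one_mem' := ⟨one_mem _, by simp⟩
  mul_mem' := by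
    rintro v w ⟨h1, h1'⟩ ⟨h2, h2'⟩
    refine ⟨mul_mem h1 h2, ?_⟩
    calc a * (v * w) * a⁻¹ = (a * v * a⁻¹) * (a * w * a⁻¹) := by group
      _ = v⁻¹ * w⁻¹ := by rw [h1', h2']
      _ = (w * v)⁻¹ := by group
      _ = (v * w)⁻¹ := by rw [hV w h2 v h1]
  inv_mem' := by
    rintro v ⟨h1, h1'⟩
    refine ⟨inv_mem h1, ?_⟩
    calc a * v⁻¹ * a⁻¹ = (a * v * a⁻¹)⁻¹ := by group
      _ = v⁻¹⁻¹ := by rw [h1']

/-- Existence of a common eigenvector inverted by a given element. -/
theorem exists_eigen [Finite G] {A V : Subgroup G} (hA : E2 A)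
    (hV : ∀ x ∈ V, ∀ y ∈ V, x * y = y * x) (hinv : CInv A V) {a' : G} (ha' : a' ∈ A)
    (hn : ¬ ∀ v ∈ V, a' * v = v * a') :
    ∃ x ∈ V, x ≠ 1 ∧ a' * x * a'⁻¹ = x⁻¹ ∧ ∀ a ∈ A, a * x * a⁻¹ = x ∨ a * x * a⁻¹ = x⁻¹ := by
  have hai : ∀ a ∈ A, a⁻¹ = a := fun a ha => inv_eq_of_mul_eq_one_left (hA.sq a ha)
  let P : Subgroup G → Prop := fun W => W ≤ V ∧ W ≠ ⊥ ∧ CInv A W ∧ ∀ w ∈ W, a' * w * a'⁻¹ = w⁻¹
  have hP : ∃ W, P W := by
    refine ⟨invSub V hV a', fun v hv => hv.1, ?_, ?_, fun w hw => hw.2⟩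
    · intro hbot
      apply hn
      intro v hv
      have h1 : v⁻¹ * (a' * v * a'⁻¹) ∈ invSub V hV a' := by
        refine ⟨mul_mem (inv_mem hv) (hinv a' ha' v hv), ?_⟩
        calc a' * (v⁻¹ * (a' * v * a'⁻¹)) * a'⁻¹ = a' * v⁻¹ * ((a' * v) * (a'⁻¹ * a'⁻¹)) := by group
          _ = a' * v⁻¹ * ((a' * v) * (a' * a')) := by rw [hai a' ha']
          _ = a' * v⁻¹ * a'⁻¹ * v := by rw [hA.sq a' ha', hai a' ha']; group
          _ = (v⁻¹ * (a' * v * a'⁻¹))⁻¹ := by group
      rw [hbot, Subgroup.mem_bot] at h1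
      have h3 : a' * v * a'⁻¹ = v := by
        have := congrArg (fun t => v * t) h1
        simpa using this
      calc a' * v = a' * v * a'⁻¹ * a' := by group
        _ = v * a' := by rw [h3]
    · intro b hb v hv
      refine ⟨hinv b hb v hv.1, ?_⟩
      have hab' := hA.comm a' ha' b hb
      have hab2 : b⁻¹ * a'⁻¹ = a'⁻¹ * b⁻¹ := by
        rw [← mul_inv_rev, ← mul_inv_rev, hab']
      calc a' * (b * v * b⁻¹) * a'⁻¹ = (a' * b) * v * (b⁻¹ * a'⁻¹) := by group
        _ = (b * a') * v * (a'⁻¹ * b⁻¹) := by rw [hab', hab2]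
        _ = b * (a' * v * a'⁻¹) * b⁻¹ := by group
        _ = b * v⁻¹ * b⁻¹ := by rw [hv.2]
        _ = (b * v * b⁻¹)⁻¹ := by group
  obtain ⟨W, hW, hWmin⟩ := exists_minimal_of_wellFoundedLT P hP
  obtain ⟨hWV, hWne, hWinv, hWa'⟩ := hW
  obtain ⟨x, hx1⟩ := (Subgroup.ne_bot_iff_exists_ne_one).1 hWne
  have hxW : (x : G) ∈ W := x.2
  have key : ∀ a ∈ A, (∀ w ∈ W, a * w * a⁻¹ = w) ∨ (∀ w ∈ W, a * w * a⁻¹ = w⁻¹) := by
    intro a ha
    by_cases hbot : W ⊓ Subgroup.centralizer ({a} : Set G) = ⊥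
    · right
      intro w hw
      have h1 : w * (a * w * a⁻¹) ∈ W ⊓ Subgroup.centralizer ({a} : Set G) := by
        refine Subgroup.mem_inf.2 ⟨mul_mem hw (hWinv a ha w hw), ?_⟩
        rw [Subgroup.mem_centralizer_singleton_iff]
        have hc := hV w (hWV hw) _ (hWV (hWinv a ha w hw))
        calc w * (a * w * a⁻¹) * a = (a * w * a⁻¹) * w * a := by rw [hc]
          _ = a * w * (a⁻¹ * w * a) := by group
          _ = a * w * (a * w * a⁻¹) := by
              have := hai a ha
              nth_rewrite 1 [this]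
              nth_rewrite 3 [← this]
              rfl
          _ = a * (w * (a * w * a⁻¹)) := by group
      rw [hbot, Subgroup.mem_bot] at h1
      exact (eq_inv_of_mul_eq_one_right h1)
    · left
      have hP' : P (W ⊓ Subgroup.centralizer ({a} : Set G)) := by
        refine ⟨inf_le_left.trans hWV, hbot, ?_, fun w hw => hWa' w hw.1⟩
        intro b hb w hw
        refine Subgroup.mem_inf.2 ⟨hWinv b hb w hw.1, ?_⟩
        have h2 := Subgroup.mem_centralizer_singleton_iff.1 hw.2
        rw [Subgroup.mem_centralizer_singleton_iff]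
        have hab' := hA.comm a ha b hb
        have hab2 : b⁻¹ * a = a * b⁻¹ := by
          calc b⁻¹ * a = b⁻¹ * (a * b) * b⁻¹ := by group
            _ = b⁻¹ * (b * a) * b⁻¹ := by rw [hab']
            _ = a * b⁻¹ := by group
        calc b * w * b⁻¹ * a = b * w * (b⁻¹ * a) := by group
          _ = b * w * (a * b⁻¹) := by rw [hab2]
          _ = b * (w * a) * b⁻¹ := by group
          _ = b * (a * w) * b⁻¹ := by rw [h2]
          _ = (b * a) * w * b⁻¹ := by group
          _ = (a * b) * w * b⁻¹ := by rw [hab']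
          _ = a * (b * w * b⁻¹) := by group
      have hle := hWmin hP' inf_le_left
      intro w hw
      have h2 := Subgroup.mem_centralizer_singleton_iff.1 (hle hw).2
      calc a * w * a⁻¹ = (w * a) * a⁻¹ := by rw [h2]
        _ = w := by group
  refine ⟨x, hWV hxW, ?_, hWa' x hxW, ?_⟩
  · intro h
    apply hx1
    exact Subtype.ext h
  · intro a ha
    rcases key a ha with h | h
    · exact Or.inl (h x hxW)
    · exact Or.inr (h x hxW)

theorem ne_inv_of_odd [Finite G] {V : Subgroup G} (hodd : Odd (Nat.card V)) {x : G} (hx : x ∈ V)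
    (hx1 : x ≠ 1) : x ≠ x⁻¹ := by
  intro h
  apply hx1
  apply eq_one_of_sq_odd hodd hx
  calc x * x = x * x⁻¹ := by rw [← h]
    _ = 1 := mul_inv_cancel x

/-- conjugation form to commutation form -/
theorem comm_of_conj {a x : G} (h : a * x * a⁻¹ = x) : a * x = x * a := by
  calc a * x = a * x * a⁻¹ * a := by group
    _ = x * a := by rw [h]

theorem conj_of_comm {a x : G} (h : a * x = x * a) : a * x * a⁻¹ = x := by
  rw [h]; group

/-- Dual systems. -/
theorem dual_system [Finite G] {A V : Subgroup G} (hA : E2 A)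
    (hV : ∀ x ∈ V, ∀ y ∈ V, x * y = y * x) (hodd : Odd (Nat.card V)) (hinv : CInv A V)
    (hf : ∀ a ∈ A, (∀ v ∈ V, a * v = v * a) → a = 1) :
    ∀ (d : ℕ) (C : Subgroup G), C ≤ A → Nat.card C = 2 ^ d →
      ∃ (a x : Fin d → G), (∀ i, a i ∈ C) ∧
        (∀ i, x i ∈ V ∧ x i ≠ 1 ∧ ∀ g ∈ A, g * x i * g⁻¹ = x i ∨ g * x i * g⁻¹ = (x i)⁻¹) ∧
        (∀ i, a i * x i * (a i)⁻¹ = (x i)⁻¹) ∧
        (∀ i j, i ≠ j → a i * x j = x j * a i) ∧
        Subgroup.closure (Set.range a) = C ∧
        (∀ g ∈ A, ∃ c ∈ C, ∀ i, (g * c) * x i = x i * (g * c)) := by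
  intro d
  induction d with
  | zero =>
    intro C hCA hcard
    have hC : C = ⊥ := by
      rw [pow_zero] at hcard
      exact Subgroup.card_eq_one.1 hcard
    refine ⟨Fin.elim0, Fin.elim0, fun i => i.elim0, fun i => i.elim0, fun i => i.elim0,
      fun i => i.elim0, ?_, fun g _ => ⟨1, one_mem _, fun i => i.elim0⟩⟩
    rw [hC]
    have : Set.range (Fin.elim0 : Fin 0 → G) = ∅ := Set.range_eq_empty _
    rw [this, Subgroup.closure_empty]
  | succ d ih =>
    intro C hCA hcard
    -- a nontrivial element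
    obtain ⟨a', ha'C, ha'1⟩ : ∃ a' ∈ C, a' ≠ 1 := by
      by_contra hcon
      push Not at hcon
      have : C = ⊥ := (Subgroup.eq_bot_iff_forall _).2 hcon
      rw [this, Subgroup.card_bot] at hcard
      have : 2 ≤ 2 ^ (d + 1) := by
        calc 2 = 2 ^ 1 := rfl
          _ ≤ 2 ^ (d + 1) := Nat.pow_le_pow_right (by norm_num) (by omega)
      omega
    have ha'A := hCA ha'C
    obtain ⟨x0, hx0V, hx01, hx0a', hx0A⟩ := exists_eigen hA hV hinv ha'A
      (fun h => ha'1 (hf a' ha'A h))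
    have hx0ne : x0 ≠ x0⁻¹ := ne_inv_of_odd hodd hx0V hx01
    set C' : Subgroup G := C ⊓ Subgroup.centralizer ({x0} : Set G) with hC'
    have hmemC' : ∀ g, g ∈ C' ↔ g ∈ C ∧ g * x0 * g⁻¹ = x0 := by
      intro g
      rw [hC', Subgroup.mem_inf, Subgroup.mem_centralizer_singleton_iff]
      constructor
      · rintro ⟨h1, h2⟩
        exact ⟨h1, conj_of_comm h2⟩
      · rintro ⟨h1, h2⟩
        exact ⟨h1, comm_of_conj h2⟩
    -- product rules
    have hinvinv : ∀ g h : G, g * x0 * g⁻¹ = x0⁻¹ → h * x0 * h⁻¹ = x0⁻¹ →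
        (g * h) * x0 * (g * h)⁻¹ = x0 := by
      intro g h h1 h2
      calc (g * h) * x0 * (g * h)⁻¹ = g * (h * x0 * h⁻¹) * g⁻¹ := by group
        _ = (g * x0 * g⁻¹)⁻¹ := by rw [h2]; group
        _ = x0 := by rw [h1, inv_inv]
    have hcinv : ∀ g h : G, g * x0 * g⁻¹ = x0 → h * x0 * h⁻¹ = x0⁻¹ →
        (g * h) * x0 * (g * h)⁻¹ = x0⁻¹ := by
      intro g h h1 h2
      calc (g * h) * x0 * (g * h)⁻¹ = g * (h * x0 * h⁻¹) * g⁻¹ := by group
        _ = (g * x0 * g⁻¹)⁻¹ := by rw [h2]; group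
        _ = x0⁻¹ := by rw [h1]
    have hinvc : ∀ g h : G, g * x0 * g⁻¹ = x0⁻¹ → h * x0 * h⁻¹ = x0 →
        (g * h) * x0 * (g * h)⁻¹ = x0⁻¹ := by
      intro g h h1 h2
      calc (g * h) * x0 * (g * h)⁻¹ = g * (h * x0 * h⁻¹) * g⁻¹ := by group
        _ = x0⁻¹ := by rw [h2, h1]
    have hrel : C'.relIndex C = 2 := by
      rw [Subgroup.relIndex_eq_two_iff]
      refine ⟨a', ha'C, ?_⟩
      intro b hb
      rcases hx0A b (hCA hb) with h | h
      · right
        refine ⟨(hmemC' b).2 ⟨hb, h⟩, ?_⟩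
        intro h2
        have h3 := ((hmemC' _).1 h2).2
        rw [hcinv b a' h hx0a'] at h3
        exact hx0ne h3.symm
      · left
        refine ⟨(hmemC' _).2 ⟨mul_mem hb ha'C, hinvinv b a' h hx0a'⟩, ?_⟩
        intro h2
        have h3 := ((hmemC' _).1 h2).2
        rw [h] at h3
        exact hx0ne h3.symm
    have hcard' : Nat.card C' = 2 ^ d := by
      have h1 := Subgroup.relIndex_mul_relIndex ⊥ C' C bot_le inf_le_left
      rw [Subgroup.relIndex_bot_left, Subgroup.relIndex_bot_left, hrel, hcard, pow_succ] at h1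
      omega
    obtain ⟨a, x, h1, h2, h3, h4, h5, h6⟩ := ih C' (inf_le_left.trans hCA) hcard'
    obtain ⟨c, hc, hcx⟩ := h6 a' ha'A
    have hcC := ((hmemC' c).1 hc)
    have ha''x0 : (a' * c) * x0 * (a' * c)⁻¹ = x0⁻¹ := hinvc a' c hx0a' hcC.2
    have ha''C : a' * c ∈ C := mul_mem ha'C hcC.1
    refine ⟨Fin.cons (a' * c) a, Fin.cons x0 x, ?_, ?_, ?_, ?_, ?_, ?_⟩
    · intro i
      refine Fin.cases ?_ (fun j => ?_) i
      · simpa using ha''C
      · simpa using ((hmemC' _).1 (h1 j)).1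
    · intro i
      refine Fin.cases ?_ (fun j => ?_) i
      · simpa using ⟨hx0V, hx01, hx0A⟩
      · simpa using h2 j
    · intro i
      refine Fin.cases ?_ (fun j => ?_) i
      · simpa using ha''x0
      · simpa using h3 j
    · intro i j
      refine Fin.cases ?_ (fun i' => ?_) i
      · refine Fin.cases ?_ (fun j' => ?_) j
        · intro h; exact absurd rfl h
        · intro _
          simpa using hcx j'
      · refine Fin.cases ?_ (fun j' => ?_) j
        · intro _
          simpa using comm_of_conj ((hmemC' _).1 (h1 i')).2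
        · intro h
          have : i' ≠ j' := fun e => h (by rw [e])
          simpa using h4 i' j' this
    · rw [Fin.range_cons]
      apply le_antisymm
      · rw [Subgroup.closure_le]
        rintro g (rfl | hg)
        · exact ha''C
        · obtain ⟨j, rfl⟩ := hg
          exact ((hmemC' _).1 (h1 j)).1
      · have hle : C' ≤ Subgroup.closure (insert (a' * c) (Set.range a)) := by
          rw [← h5]
          exact Subgroup.closure_mono (Set.subset_insert _ _)
        have hmem : a' * c ∈ Subgroup.closure (insert (a' * c) (Set.range a)) :=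
          Subgroup.subset_closure (Set.mem_insert _ _)
        intro g hg
        rcases hx0A g (hCA hg) with h | h
        · exact hle ((hmemC' g).2 ⟨hg, h⟩)
        · have : g * (a' * c) ∈ C' := (hmemC' _).2 ⟨mul_mem hg ha''C, hinvinv g _ h ha''x0⟩
          have e : g = (g * (a' * c)) * (a' * c)⁻¹ := by group
          rw [e]
          exact mul_mem (hle this) (inv_mem hmem)
    · intro g hg
      obtain ⟨c1, hc1, hc1x⟩ := h6 g hg
      have hc1C := ((hmemC' c1).1 hc1)
      rcases hx0A (g * c1) (mul_mem hg (hCA hc1C.1)) with h | h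
      · refine ⟨c1, hc1C.1, ?_⟩
        intro i
        refine Fin.cases ?_ (fun j => ?_) i
        · simpa using comm_of_conj h
        · simpa using hc1x j
      · refine ⟨c1 * (a' * c), mul_mem hc1C.1 ha''C, ?_⟩
        intro i
        refine Fin.cases ?_ (fun j => ?_) i
        · have := comm_of_conj (hinvinv (g * c1) (a' * c) h ha''x0)
          simpa [mul_assoc] using this
        · have e1 := hc1x j
          have e2 := hcx j
          have : (g * (c1 * (a' * c))) * x j = x j * (g * (c1 * (a' * c))) := by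
            calc (g * (c1 * (a' * c))) * x j = (g * c1) * ((a' * c) * x j) := by group
              _ = (g * c1) * (x j * (a' * c)) := by rw [e2]
              _ = ((g * c1) * x j) * (a' * c) := by group
              _ = (x j * (g * c1)) * (a' * c) := by rw [e1]
              _ = _ := by group
          simpa using this

end TD2

end Cfsg.Agent.Lib.Helper26
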